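/-
Frames of a morphism: tuples of functions upstairs which are bases over every open of the base.
-/
import Groth.Agent.H11Proj.SecChart

set_option autoImplicit false
set_option backward.isDefEq.respectTransparency false
set_option linter.style.haveILetI false

noncomputable section

universe u

open CategoryTheory AlgebraicGeometry TopologicalSpace Opposite
open Groth.Agent.H11Proj (resF resF_resF resF_self)

namespace Groth.Agent.H27HilbProj

variable {Z H : Scheme.{u}} (π : Z ⟶ H) {d : ℕ}

theorem resF_app {T T' : H.Opens} (h : T' ≤ T) (c : Γ(H, T)) :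
    resF (π.preimage_mono h) (π.app T c) = π.app T' (resF h c) :=
  (congr($(π.naturality (homOfLE h).op) c)).symm

theorem resF_locally {W : H.Opens} (s t : Γ(H, W))
    (h : ∀ x ∈ W, ∃ (V : H.Opens) (hV : V ≤ W), x ∈ V ∧ resF hV s = resF hV t) : s = t := by
  choose V hV hxV he using h
  exact TopCat.Sheaf.eq_of_locally_eq' H.sheaf (fun x : W => V x.1 x.2) W
    (fun x => homOfLE (hV x.1 x.2)) (fun x hx => Opens.mem_iSup.2 ⟨⟨x, hx⟩, hxV x hx⟩) s t
    (fun x => he x.1 x.2)

/-- Linear combinations of a tuple. -/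
def comb {T : H.Opens} (v : Fin d → Γ(Z, π ⁻¹ᵁ T)) (c : Fin d → Γ(H, T)) : Γ(Z, π ⁻¹ᵁ T) :=
  ∑ i, π.app T (c i) * v i

/-- Restriction of a tuple. -/
abbrev vres {T T' : H.Opens} (h : T' ≤ T) (v : Fin d → Γ(Z, π ⁻¹ᵁ T)) : Fin d → Γ(Z, π ⁻¹ᵁ T') :=
  fun i => resF (π.preimage_mono h) (v i)

theorem vres_vres {T T' T'' : H.Opens} (h' : T'' ≤ T') (h : T' ≤ T) (v : Fin d → Γ(Z, π ⁻¹ᵁ T)) :
    vres π h' (vres π h v) = vres π (h'.trans h) v :=
  funext fun _ => resF_resF _ _ _

theorem resF_comb {T T' : H.Opens} (h : T' ≤ T) (v : Fin d → Γ(Z, π ⁻¹ᵁ T)) (c : Fin d → Γ(H, T)) :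
    resF (π.preimage_mono h) (comb π v c) = comb π (vres π h v) (fun i => resF h (c i)) := by
  simp only [comb, map_sum, map_mul]
  exact Finset.sum_congr rfl fun i _ => by rw [resF_app π h]

/-- The tuple is a basis over every open inside. -/
def IsFrame {T : H.Opens} (v : Fin d → Γ(Z, π ⁻¹ᵁ T)) : Prop :=
  ∀ (T' : H.Opens) (h : T' ≤ T), Function.Bijective (comb π (vres π h v))

variable {π}

theorem IsFrame.res {T T' : H.Opens} {v : Fin d → Γ(Z, π ⁻¹ᵁ T)} (hv : IsFrame π v) (h : T' ≤ T) :
    IsFrame π (vres π h v) := fun T'' h' => by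
  rw [vres_vres]
  exact hv T'' (h'.trans h)

theorem IsFrame.comb_bijective {T : H.Opens} {v : Fin d → Γ(Z, π ⁻¹ᵁ T)} (hv : IsFrame π v) :
    Function.Bijective (comb π v) := by
  have h := hv T le_rfl
  rwa [show vres π le_rfl v = v from funext fun i => resF_self _] at h

variable {T : H.Opens} {v w u : Fin d → Γ(Z, π ⁻¹ᵁ T)}

/-- Coordinates in a frame. -/
def coord (hv : IsFrame π v) (z : Γ(Z, π ⁻¹ᵁ T)) : Fin d → Γ(H, T) :=
  (hv.comb_bijective.2 z).choose

@[simp] theorem comb_coord (hv : IsFrame π v) (z : Γ(Z, π ⁻¹ᵁ T)) : comb π v (coord hv z) = z :=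
  (hv.comb_bijective.2 z).choose_spec

theorem coord_eq (hv : IsFrame π v) {z : Γ(Z, π ⁻¹ᵁ T)} {c : Fin d → Γ(H, T)} (h : comb π v c = z) :
    coord hv z = c :=
  hv.comb_bijective.1 (by rw [comb_coord, h])

theorem comb_add (c e : Fin d → Γ(H, T)) : comb π v (c + e) = comb π v c + comb π v e := by
  simp [comb, add_mul, Finset.sum_add_distrib]

theorem comb_smul (r : Γ(H, T)) (c : Fin d → Γ(H, T)) : comb π v (r • c) = π.app T r * comb π v c := by
  simp [comb, Finset.mul_sum, mul_assoc]

theorem comb_single (i : Fin d) (r : Γ(H, T)) :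
    comb π v (Pi.single i r) = π.app T r * v i := by
  rw [comb, Finset.sum_eq_single i]
  · rw [Pi.single_eq_same]
  · intro j _ hj; rw [Pi.single_eq_of_ne hj, map_zero, zero_mul]
  · simp

theorem coord_add (hv : IsFrame π v) (y z : Γ(Z, π ⁻¹ᵁ T)) :
    coord hv (y + z) = coord hv y + coord hv z :=
  coord_eq hv (by rw [comb_add, comb_coord, comb_coord])

theorem coord_app_mul (hv : IsFrame π v) (r : Γ(H, T)) (z : Γ(Z, π ⁻¹ᵁ T)) :
    coord hv (π.app T r * z) = r • coord hv z :=
  coord_eq hv (by rw [comb_smul, comb_coord])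

theorem coord_self (hv : IsFrame π v) (i : Fin d) :
    coord hv (v i) = Pi.single i (1 : Γ(H, T)) :=
  coord_eq hv (by rw [comb_single, map_one, one_mul])

theorem coord_res (hv : IsFrame π v) {T' : H.Opens} (h : T' ≤ T) (z : Γ(Z, π ⁻¹ᵁ T)) :
    coord (hv.res h) (resF (π.preimage_mono h) z) = fun i => resF h (coord hv z i) :=
  coord_eq _ (by rw [← resF_comb, comb_coord])

/-- The matrix of a tuple in a frame. -/
def mat (hv : IsFrame π v) (w : Fin d → Γ(Z, π ⁻¹ᵁ T)) : Matrix (Fin d) (Fin d) Γ(H, T) :=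
  Matrix.of fun i j => coord hv (w j) i

theorem mat_self (hv : IsFrame π v) : mat hv v = 1 := by
  refine Matrix.ext fun i j => ?_
  rw [mat, Matrix.of_apply, coord_self, Pi.single_apply, Matrix.one_apply]

theorem comb_mat_mulVec (hv : IsFrame π v) (c : Fin d → Γ(H, T)) :
    comb π v ((mat hv w).mulVec c) = comb π w c := by
  have : comb π w c = ∑ j, π.app T (c j) * comb π v (coord hv (w j)) := by
    simp only [comb_coord]; rfl
  rw [this]
  simp only [comb, Matrix.mulVec, dotProduct, mat, Matrix.of_apply, map_sum, map_mul,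
    Finset.sum_mul, Finset.mul_sum]
  rw [Finset.sum_comm]
  exact Finset.sum_congr rfl fun j _ => Finset.sum_congr rfl fun i _ => by ring

theorem mat_mul (hv : IsFrame π v) (hw : IsFrame π w) (u : Fin d → Γ(Z, π ⁻¹ᵁ T)) :
    mat hv u = mat hv w * mat hw u := by
  refine Matrix.ext fun i j => ?_
  have h : coord hv (u j) = (mat hv w).mulVec (coord hw (u j)) :=
    coord_eq hv (by rw [comb_mat_mulVec, comb_coord])
  rw [mat, Matrix.of_apply, h]
  rfl

theorem mat_res (hv : IsFrame π v) {T' : H.Opens} (h : T' ≤ T) :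
    mat (hv.res h) (vres π h w) = (mat hv w).map (resF h) := by
  refine Matrix.ext fun i j => ?_
  exact congrFun (coord_res hv h (w j)) i

theorem det_res (hv : IsFrame π v) {T' : H.Opens} (h : T' ≤ T) :
    (mat (hv.res h) (vres π h w)).det = resF h (mat hv w).det := by
  rw [mat_res, RingHom.map_det]
  rfl

theorem isUnit_det (hv : IsFrame π v) (hw : IsFrame π w) : IsUnit (mat hv w).det :=
  IsUnit.of_mul_eq_one (mat hw v).det (by rw [← Matrix.det_mul, ← mat_mul, mat_self, Matrix.det_one])

theorem isFrame_of_isUnit_det (hv : IsFrame π v) (h : IsUnit (mat hv w).det) : IsFrame π w := by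
  intro T' hT'
  have hM : IsUnit (mat (hv.res hT') (vres π hT' w)) :=
    (Matrix.isUnit_iff_isUnit_det _).2 (by rw [det_res]; exact h.map _)
  obtain ⟨U, hU⟩ := hM
  have e : comb π (vres π hT' w) = comb π (vres π hT' v) ∘ (mat (hv.res hT') (vres π hT' w)).mulVec :=
    funext fun c => (comb_mat_mulVec _ c).symm
  rw [e]
  refine (hv.res hT').comb_bijective.comp ?_
  rw [← hU, Function.bijective_iff_has_inverse]
  refine ⟨(U⁻¹).1.mulVec, fun c => ?_, fun c => ?_⟩
  · rw [Matrix.mulVec_mulVec, Units.inv_mul, Matrix.one_mulVec]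
  · rw [Matrix.mulVec_mulVec, Units.mul_inv, Matrix.one_mulVec]

theorem mat_update_det (hv : IsFrame π v) (i : Fin d) (z : Γ(Z, π ⁻¹ᵁ T)) :
    (mat hv (Function.update v i z)).det = coord hv z i := by
  have h : mat hv (Function.update v i z) =
      (1 : Matrix (Fin d) (Fin d) Γ(H, T)).updateCol i (coord hv z) := by
    refine Matrix.ext fun k j => ?_
    rw [mat, Matrix.of_apply, Matrix.updateCol_apply]
    rcases eq_or_ne j i with rfl | hj
    · rw [if_pos rfl, Function.update_self]
    · rw [if_neg hj, Function.update_of_ne hj, coord_self, Pi.single_apply, Matrix.one_apply]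
  rw [h, ← Matrix.cramer_apply, Matrix.cramer_one]
  rfl

/-- A tuple which is a basis over an affine open is a frame there. -/
theorem isFrame_of_bijective [IsAffineHom π] (hT : IsAffineOpen T) (h : Function.Bijective (comb π v)) :
    IsFrame π v := by
  have key : ∀ r : Γ(H, T), Function.Bijective (comb π (vres π (H.basicOpen_le r) v)) := by
    intro r
    haveI := hT.isLocalization_basicOpen r
    haveI := (hT.preimage π).isLocalization_of_eq_basicOpen (π.app T r)
      (V := π ⁻¹ᵁ H.basicOpen r) (homOfLE (π.preimage_mono (H.basicOpen_le r)))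
      (Scheme.preimage_basicOpen π r)
    letI alg : Algebra Γ(Z, π ⁻¹ᵁ T) Γ(Z, π ⁻¹ᵁ H.basicOpen r) :=
      (resF (π.preimage_mono (H.basicOpen_le r))).toAlgebra
    constructor
    · show Function.Injective (AddMonoidHom.mk' (comb π (vres π (H.basicOpen_le r) v)) comb_add)
      refine (injective_iff_map_eq_zero _).2 fun c hc => ?_
      choose n c' hc' using fun i => IsLocalization.Away.surj r (c i)
      classical
      let N := Finset.univ.sup n
      let e : Fin d → Γ(H, T) := fun i => r ^ (N - n i) * c' i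
      have he : ∀ i, resF (H.basicOpen_le r) (e i) = resF (H.basicOpen_le r) r ^ N * c i := fun i => by
        simp only [e, map_mul, map_pow]
        rw [show resF (H.basicOpen_le r) (c' i) = _ from (hc' i).symm]
        conv_rhs => rw [← Nat.sub_add_cancel (show n i ≤ N from Finset.le_sup (f := n) (Finset.mem_univ i)),
          pow_add, mul_assoc]
        rw [mul_comm (c i)]
        rfl
      have h0 : resF (π.preimage_mono (H.basicOpen_le r)) (comb π v e) = 0 := by
        rw [resF_comb π (H.basicOpen_le r), funext he]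
        have hc0 : comb π (vres π (H.basicOpen_le r) v) c = 0 := hc
        refine (comb_smul (resF (H.basicOpen_le r) r ^ N) c).trans ?_
        rw [hc0, mul_zero]
      obtain ⟨⟨_, k, rfl⟩, hk⟩ := (IsLocalization.map_eq_zero_iff (Submonoid.powers (π.app T r))
        Γ(Z, π ⁻¹ᵁ H.basicOpen r) _).1 h0
      have hk' : comb π v (r ^ k • e) = comb π v 0 := by
        rw [comb_smul, map_pow]
        refine hk.trans ?_
        simp [comb]
      have hk'' := h.1 hk'
      funext i
      have hu : IsUnit (resF (H.basicOpen_le r) r) :=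
        IsLocalization.Away.algebraMap_isUnit (S := Γ(H, H.basicOpen r)) r
      have := congrArg (resF (H.basicOpen_le r)) (congrFun hk'' i)
      rw [Pi.smul_apply, smul_eq_mul, map_mul, map_pow, he, Pi.zero_apply, map_zero] at this
      exact ((hu.pow N).mul_right_eq_zero).1 (((hu.pow k).mul_right_eq_zero).1 this)
    · intro z
      obtain ⟨n, z', hz⟩ := IsLocalization.Away.surj (π.app T r) z
      obtain ⟨c, hc⟩ := h.2 z'
      obtain ⟨s, hs⟩ : IsUnit (resF (H.basicOpen_le r) r ^ n) :=
        (IsLocalization.Away.algebraMap_isUnit (S := Γ(H, H.basicOpen r)) r).pow n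
      refine ⟨(s⁻¹).1 • fun i => resF (H.basicOpen_le r) (c i), ?_⟩
      rw [comb_smul, ← resF_comb, hc, show resF (π.preimage_mono (H.basicOpen_le r)) z' = _ from hz.symm]
      have e : algebraMap Γ(Z, π ⁻¹ᵁ T) Γ(Z, π ⁻¹ᵁ H.basicOpen r) (π.app T r) =
          π.app (H.basicOpen r) (resF (H.basicOpen_le r) r) := resF_app π _ r
      rw [e, mul_left_comm, ← map_pow, ← map_mul, ← hs, Units.inv_mul, map_one, mul_one]
  intro T' hT'
  constructor
  · intro c c' hcc
    funext i
    refine resF_locally _ _ fun x hx => ?_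
    obtain ⟨r, hr, hxr⟩ := hT.exists_basicOpen_le ⟨x, hx⟩ (hT' hx)
    refine ⟨_, hr, hxr, congrFun ((key r).1 (a₁ := fun i => resF hr (c i))
      (a₂ := fun i => resF hr (c' i)) ?_) i⟩
    have := congrArg (resF (π.preimage_mono hr)) hcc
    rwa [resF_comb, resF_comb, vres_vres] at this
  · intro z
    choose r hr hxr using fun x : T' => hT.exists_basicOpen_le ⟨x.1, x.2⟩ (hT' x.2)
    choose c hc using fun x : T' => (key (r x)).2 (resF (π.preimage_mono (hr x)) z)
    have hcompat : ∀ (x y : T') (i : Fin d), resF inf_le_left (c x i) =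
        resF (inf_le_right : H.basicOpen (r x) ⊓ H.basicOpen (r y) ≤ _) (c y i) := by
      intro x y i
      refine resF_locally _ _ fun a ha => ?_
      obtain ⟨s, hs, has⟩ := hT.exists_basicOpen_le
        (V := H.basicOpen (r x) ⊓ H.basicOpen (r y)) ⟨a, ha⟩ (H.basicOpen_le _ ha.1)
      refine ⟨_, hs, has, congrFun ((key s).1
        (a₁ := fun i => resF hs (resF inf_le_left (c x i)))
        (a₂ := fun i => resF hs (resF inf_le_right (c y i))) ?_) i⟩
      simp only [resF_resF]
      have hx' := congrArg (resF (π.preimage_mono (hs.trans inf_le_left))) (hc x)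
      have hy' := congrArg (resF (π.preimage_mono (hs.trans inf_le_right))) (hc y)
      rw [resF_comb π (hs.trans inf_le_left), vres_vres, resF_resF] at hx'
      rw [resF_comb π (hs.trans inf_le_right), vres_vres, resF_resF] at hy'
      exact hx'.trans hy'.symm
    have hglue : ∀ i, ∃ t : Γ(H, T'), ∀ x : T', resF (hr x) t = c x i := fun i => by
      obtain ⟨t, ht, -⟩ := TopCat.Sheaf.existsUnique_gluing' H.sheaf (fun x : T' => H.basicOpen (r x)) T'
        (fun x => homOfLE (hr x)) (fun a ha => Opens.mem_iSup.2 ⟨⟨a, ha⟩, hxr ⟨a, ha⟩⟩)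
        (fun x => c x i) (fun x y => hcompat x y i)
      exact ⟨t, ht⟩
    choose t ht using hglue
    refine ⟨t, TopCat.Sheaf.eq_of_locally_eq' Z.sheaf (fun x : T' => π ⁻¹ᵁ H.basicOpen (r x))
      (π ⁻¹ᵁ T') (fun x => homOfLE (π.preimage_mono (hr x)))
      (fun a ha => Opens.mem_iSup.2 ⟨⟨π a, ha⟩, hxr ⟨π a, ha⟩⟩) _ _ fun x => ?_⟩
    show resF (π.preimage_mono (hr x)) _ = resF (π.preimage_mono (hr x)) z
    rw [resF_comb π (hr x), vres_vres, show (fun i => resF (hr x) (t i)) = c x from funext fun i => ht i x]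
    exact hc x

end Groth.Agent.H27HilbProj
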