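/-
`Hilb^d` of a finite morphism is representable; restriction to an affine open of the base.
-/
import Groth.Agent.H27HilbAff.Chart
import Groth.Agent.H27HilbOps.Represent

set_option autoImplicit false
set_option backward.isDefEq.respectTransparency false
set_option backward.isDefEq.respectTransparency.types false

noncomputable section

universe u

open CategoryTheory CategoryTheory.Limits AlgebraicGeometry TopologicalSpace CommRingCat
open Groth.Agent.H27HilbOps (overS overSMap XOincl pushO pushOObj)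
open Groth.Agent.H27HilbAff (fB TA)

namespace Groth.Agent.H27HilbProj

variable {X S : Scheme.{u}} (f : X ⟶ S) (V : S.Opens)

scoped instance algV : Algebra Γ(S, V) Γ(X, f ⁻¹ᵁ V) := (f.app V).hom.toAlgebra

/-- The base over an affine open. -/
abbrev σV : Spec (CommRingCat.of Γ(S, V)) ⟶ Spec (CommRingCat.of Γ(S, V)) := 𝟙 _

/-- The morphism over an affine open. -/
abbrev gV : Spec (CommRingCat.of Γ(X, f ⁻¹ᵁ V)) ⟶ Spec (CommRingCat.of Γ(S, V)) :=
  fB (B := Γ(X, f ⁻¹ᵁ V)) (σV V)

variable {V} [IsAffineHom f] (hV : IsAffineOpen V)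

/-- The preimage of an affine open. -/
abbrev jV : Spec (CommRingCat.of Γ(X, f ⁻¹ᵁ V)) ⟶ X := (hV.preimage f).fromSpec

/-- The affine open. -/
abbrev vV : Spec (CommRingCat.of Γ(S, V)) ⟶ S := hV.fromSpec

theorem jV_comp : jV f hV ≫ f = gV f V ≫ vV hV := by
  show (hV.preimage f).fromSpec ≫ f = (Spec.map (f.app V) ≫ 𝟙 _) ≫ hV.fromSpec
  rw [Category.comp_id, Scheme.Hom.app_eq_appLE, hV.SpecMap_appLE_fromSpec]

theorem range_jV : Set.range (jV f hV) = ((f ⁻¹ᵁ V : X.Opens) : Set X) := (hV.preimage f).range_fromSpec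

/-- `Hilb^d` of an affine morphism with separated source is representable, for finite morphisms. -/
theorem representable_of_isFinite {X S : Scheme.{u}} (f : X ⟶ S) [IsFinite f] (d : ℕ) :
    HilbD.Representable f d := by
  choose Hc Zc huc using fun i : S.affineOpens =>
    H27HilbAff.representable (B := Γ(X, f ⁻¹ᵁ i.1)) (σV i.1) (d := d)
  refine H27HilbOps.representable_of_open_cover f (fun i : S.affineOpens => gV f i.1)
    (fun i => jV f i.2) (fun i => vV i.2) (fun i => jV_comp f i.2) Hc Zc huc fun T W x => ?_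
  obtain ⟨U, hU, hxU, -⟩ :=
    exists_isAffineOpen_mem_and_subset (x := T.hom x) (U := (⊤ : S.Opens)) trivial
  refine ⟨⟨U, hU⟩, hU.range_fromSpec.superset hxU, fun z hz => ?_⟩
  rw [range_jV]
  show f ((W.1.subschemeι ≫ pullback.fst f T.hom) z) ∈ U
  have e : (W.1.subschemeι ≫ pullback.fst f T.hom) ≫ f = (W.1.subschemeι ≫ PicF.XTproj f T) ≫ T.hom := by
    rw [Category.assoc, Category.assoc, pullback.condition]
  rw [show f ((W.1.subschemeι ≫ pullback.fst f T.hom) z) = T.hom ((W.1.subschemeι ≫ PicF.XTproj f T) z)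
    from congr($e z), hz]
  exact hxU

end Groth.Agent.H27HilbProj
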