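/-
Frame loci of the universal family over affine opens of the base are affine charts.
-/
import Groth.Agent.H27HilbProj.Frame
import Groth.Agent.H27HilbProj.Represent

set_option autoImplicit false
set_option maxHeartbeats 400000
set_option backward.isDefEq.respectTransparency false
set_option backward.isDefEq.respectTransparency.types false

noncomputable section

universe u

open CategoryTheory CategoryTheory.Limits AlgebraicGeometry TopologicalSpace CommRingCat TensorProduct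
open Groth.Agent.H11Proj (resF resF_resF resF_self)
open Groth.Agent.H27HilbOps (overS overSMap XOincl pushO pushOObj pullObj)
open Groth.Agent.H27HilbAff (fB TA famOf incl IsCoord IsFramed tilde chartObj UnivRing gen univCoord)

namespace Groth.Agent.H27HilbProj

section sec

variable {A B : Type u} [CommRing A] [CommRing B] {Y Y' : Scheme.{u}}

/-- Sections read off along a morphism from an affine scheme. -/
def secAt (g : Spec (CommRingCat.of A) ⟶ Y) (U : Y.Opens) (h : ∀ p, g p ∈ U) : Γ(Y, U) →+* A :=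
  (g.appLE U ⊤ (fun p _ => h p) ≫ (Scheme.ΓSpecIso (CommRingCat.of A)).hom).hom

theorem secAt_congr {g g' : Spec (CommRingCat.of A) ⟶ Y} (e : g = g') {U : Y.Opens} (h : ∀ p, g p ∈ U)
    (x : Γ(Y, U)) : secAt g U h x = secAt g' U (e ▸ h) x := by subst e; rfl

theorem secAt_comp (g : Spec (CommRingCat.of A) ⟶ Y) (g' : Y ⟶ Y') (U : Y'.Opens) (W : Y.Opens)
    (hW : ∀ p, g p ∈ W) (e : W ≤ g' ⁻¹ᵁ U) (x : Γ(Y', U)) :
    secAt (g ≫ g') U (fun p => e (hW p)) x = secAt g W hW (g'.appLE U W e x) := by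
  simp only [secAt, ← Scheme.Hom.appLE_comp_appLE g g' U W ⊤ e (fun p _ => hW p), Category.assoc]
  rfl

theorem secAt_specMap (φ : A →+* B) (g : Spec (CommRingCat.of A) ⟶ Y) (U : Y.Opens) (h : ∀ p, g p ∈ U)
    (x : Γ(Y, U)) :
    secAt (Spec.map (ofHom φ) ≫ g) U (fun _ => h _) x = φ (secAt g U h x) := by
  simp only [secAt, ← Scheme.Hom.appLE_comp_appLE (Spec.map (ofHom φ)) g U ⊤ ⊤ (fun p _ => h p) (fun _ _ => trivial),
    Category.assoc]
  rw [show (Spec.map (ofHom φ)).appLE ⊤ ⊤ (fun _ _ => trivial) = (Spec.map (ofHom φ)).appTop from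
    Scheme.Hom.appLE_eq_app _, Scheme.ΓSpecIso_naturality]
  rfl

theorem secAt_fromSpec {U : Y.Opens} (hU : IsAffineOpen U) (h : ∀ p, hU.fromSpec p ∈ U) (x : Γ(Y, U)) :
    secAt (A := Γ(Y, U)) hU.fromSpec U h x = x := by
  simp only [secAt, Scheme.Hom.appLE, hU.fromSpec_app_self, Category.assoc]
  rw [← Functor.map_comp_assoc]
  rw [Subsingleton.elim (_ ≫ _ : Opposite.op (⊤ : (Spec Γ(Y, U)).Opens) ⟶ Opposite.op ⊤) (𝟙 _),
    CategoryTheory.Functor.map_id, Category.id_comp]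
  exact congr($((Scheme.ΓSpecIso Γ(Y, U)).inv_hom_id) x)

theorem secAt_bijective (g : Spec (CommRingCat.of A) ⟶ Y) [IsOpenImmersion g] {U : Y.Opens}
    (hU : g.opensRange = U) (h : ∀ p, g p ∈ U) : Function.Bijective (secAt g U h) := by
  subst hU
  have e : (⊤ : (Spec (CommRingCat.of A)).Opens) = g ⁻¹ᵁ g.opensRange := g.preimage_opensRange.symm
  have : IsIso (g.appLE g.opensRange ⊤ (fun p _ => h p)) := by
    haveI := g.isIso_app g.opensRange le_rfl
    rw [Scheme.Hom.appLE, show (homOfLE (fun p _ => h p : (⊤ : (Spec (CommRingCat.of A)).Opens) ≤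
      g ⁻¹ᵁ g.opensRange)).op = (eqToHom e).op from rfl]
    infer_instance
  exact ConcreteCategory.bijective_of_isIso (g.appLE g.opensRange ⊤ (fun p _ => h p) ≫ (Scheme.ΓSpecIso (CommRingCat.of A)).hom)

theorem exists_iso_of_ker_eq {P Q W : Scheme.{u}} (k : P ⟶ W) (p : Q ⟶ W) [IsClosedImmersion k]
    [IsClosedImmersion p] (h : k.ker = p.ker) : ∃ e : P ≅ Q, e.hom ≫ p = k :=
  ⟨{ hom := IsClosedImmersion.lift p k h.ge
     inv := IsClosedImmersion.lift k p h.le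
     hom_inv_id := by simp [← cancel_mono k]
     inv_hom_id := by simp [← cancel_mono p] }, IsClosedImmersion.lift_fac _ _ _⟩

end sec

variable {X S : Scheme.{u}} (f : X ⟶ S) {d : ℕ} (H : Over S) (ZH : HilbD.Obj f d H)

/-- The projection of the universal family. -/
abbrev piZ : ZH.1.subscheme ⟶ H.left := ZH.1.subschemeι ≫ PicF.XTproj f H

/-- The universal family to `X`. -/
abbrev qZ : ZH.1.subscheme ⟶ X := ZH.1.subschemeι ≫ pullback.fst f H.hom

theorem qZ_comp : qZ f H ZH ≫ f = piZ f H ZH ≫ H.hom := by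
  rw [Category.assoc, Category.assoc, pullback.condition]

theorem preimage_le (U : S.Opens) {T : H.left.Opens} (h : T ≤ H.hom ⁻¹ᵁ U) :
    piZ f H ZH ⁻¹ᵁ T ≤ qZ f H ZH ⁻¹ᵁ (f ⁻¹ᵁ U) := by
  refine ((piZ f H ZH).preimage_mono h).trans (le_of_eq ?_)
  rw [← Scheme.Hom.comp_preimage, ← Scheme.Hom.comp_preimage, qZ_comp]

/-- Functions of `X` evaluated on the family. -/
def ev (U : S.Opens) (T : H.left.Opens) (h : T ≤ H.hom ⁻¹ᵁ U) :
    Γ(X, f ⁻¹ᵁ U) →+* Γ(ZH.1.subscheme, piZ f H ZH ⁻¹ᵁ T) :=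
  ((qZ f H ZH).appLE (f ⁻¹ᵁ U) (piZ f H ZH ⁻¹ᵁ T) (preimage_le f H ZH U h)).hom

theorem ev_res {U : S.Opens} {T T' : H.left.Opens} (h : T ≤ H.hom ⁻¹ᵁ U) (i : T' ≤ T) (x : Γ(X, f ⁻¹ᵁ U)) :
    resF ((piZ f H ZH).preimage_mono i) (ev f H ZH U T h x) = ev f H ZH U T' (i.trans h) x :=
  congr($((qZ f H ZH).appLE_map (preimage_le f H ZH U h) (homOfLE ((piZ f H ZH).preimage_mono i)).op) x)

theorem ev_map {U V : S.Opens} (i : V ≤ U) {T : H.left.Opens} (h : T ≤ H.hom ⁻¹ᵁ V) (x : Γ(X, f ⁻¹ᵁ U)) :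
    ev f H ZH V T h (resF (f.preimage_mono i) x) = ev f H ZH U T (h.trans (H.hom.preimage_mono i)) x :=
  congr($((qZ f H ZH).map_appLE (preimage_le f H ZH V h) (homOfLE (f.preimage_mono i)).op) x)

theorem ev_app {U : S.Opens} {T : H.left.Opens} (h : T ≤ H.hom ⁻¹ᵁ U) (s : Γ(S, U)) :
    ev f H ZH U T h (f.app U s) = (piZ f H ZH).app T (H.hom.appLE U T h s) := by
  have e : f.app U ≫ (qZ f H ZH).appLE (f ⁻¹ᵁ U) (piZ f H ZH ⁻¹ᵁ T) (preimage_le f H ZH U h) =
      H.hom.appLE U T h ≫ (piZ f H ZH).app T := by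
    rw [Scheme.Hom.app_eq_appLE, Scheme.Hom.app_eq_appLE, Scheme.Hom.appLE_comp_appLE,
      Scheme.Hom.appLE_comp_appLE]
    simp only [qZ_comp]
  exact congr($e s)

variable [IsFinite f] (V : S.Opens) (hV : IsAffineOpen V)

theorem exists_restrict : ∃ (T0 : Over (Spec (CommRingCat.of Γ(S, V)))) (Z0 : HilbD.Obj (gV f V) d T0)
    (e0 : overS (vV hV) T0 ⟶ H), IsOpenImmersion e0.left ∧
      Set.range e0.left = ((H.hom ⁻¹ᵁ V : H.left.Opens) : Set H.left) ∧
      HilbD.pull f e0 ZH.1 = pushO f (gV f V) (jV f hV) (vV hV) (jV_comp f hV) T0 Z0.1 ∧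
      (HilbD.IsUniversal f d H ZH → HilbD.IsUniversal (gV f V) d T0 Z0) := by
  have hr : Set.range ((H.hom ⁻¹ᵁ V).ι ≫ H.hom) ⊆ Set.range (vV hV) := by
    rintro _ ⟨y, rfl⟩
    exact hV.range_fromSpec.superset y.2
  let T0 : Over (Spec (CommRingCat.of Γ(S, V))) := Over.mk (IsOpenImmersion.lift (vV hV) _ hr)
  let e0 : overS (vV hV) T0 ⟶ H := Over.homMk (H.hom ⁻¹ᵁ V).ι
    (IsOpenImmersion.lift_fac (vV hV) _ hr).symm
  have hsub : Set.range (pullObj f e0 ZH).1.subschemeι ⊆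
      Set.range (XOincl f (gV f V) (jV f hV) (vV hV) (jV_comp f hV) T0) := by
    rintro _ ⟨z, rfl⟩
    rw [H27HilbOps.range_XOincl, range_jV]
    show f (pullback.fst f _ _) ∈ V
    rw [show f (pullback.fst f (overS (vV hV) T0).hom ((pullObj f e0 ZH).1.subschemeι z)) =
      (overS (vV hV) T0).hom (pullback.snd f _ ((pullObj f e0 ZH).1.subschemeι z)) from
      congr($(pullback.condition (f := f) (g := (overS (vV hV) T0).hom)) _)]
    exact hV.range_fromSpec.subset ⟨_, rfl⟩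
  obtain ⟨Z0, hZ0⟩ := H27HilbOps.exists_eq_pushO f (gV f V) (jV f hV) (vV hV) (jV_comp f hV)
    (pullObj f e0 ZH) hsub
  refine ⟨T0, Z0, e0, inferInstanceAs (IsOpenImmersion (H.hom ⁻¹ᵁ V).ι), ?_, hZ0.symm, fun hu T Z' => ?_⟩
  · exact (H.hom ⁻¹ᵁ V).range_ι
  · obtain ⟨h, hh, huniq⟩ := hu (overS (vV hV) T)
      (pushOObj f (gV f V) (jV f hV) (vV hV) (jV_comp f hV) Z')
    have hrh : Set.range h.left ⊆ Set.range (H.hom ⁻¹ᵁ V).ι := by
      rintro _ ⟨y, rfl⟩
      rw [Scheme.Opens.range_ι]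
      show H.hom (h.left y) ∈ V
      rw [← Scheme.Hom.comp_apply, Over.w h]
      exact hV.range_fromSpec.subset ⟨_, rfl⟩
    let k : T ⟶ T0 := Over.homMk (IsOpenImmersion.lift (H.hom ⁻¹ᵁ V).ι h.left hrh) (by
      rw [← cancel_mono (vV hV), Category.assoc]
      show _ ≫ IsOpenImmersion.lift (vV hV) _ hr ≫ vV hV = _
      rw [IsOpenImmersion.lift_fac (vV hV) _ hr, IsOpenImmersion.lift_fac_assoc]
      exact Over.w h)
    have hkey : ∀ k' : T ⟶ T0, pushO f (gV f V) (jV f hV) (vV hV) (jV_comp f hV) T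
        (HilbD.pull (gV f V) k' Z0.1) = HilbD.pull f (overSMap (vV hV) k' ≫ e0) ZH.1 := fun k' => by
      rw [← H27HilbOps.pull_pushO, hZ0, H27HilbOps.pull_comp]
      rfl
    have hk : overSMap (vV hV) k ≫ e0 = h := Over.OverMorphism.ext (IsOpenImmersion.lift_fac _ _ _)
    refine ⟨k, ?_, fun k' hk' => ?_⟩
    · have e := hkey k
      rw [hk] at e
      replace e := e.trans hh
      show HilbD.pull (gV f V) k Z0.1 = Z'.1
      rw [show HilbD.pull (gV f V) k Z0.1 = (pullObj (gV f V) k Z0).1 from rfl,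
        ← H27HilbOps.comap_pushO f (gV f V) (jV f hV) (vV hV) (jV_comp f hV) (pullObj (gV f V) k Z0),
        ← H27HilbOps.comap_pushO f (gV f V) (jV f hV) (vV hV) (jV_comp f hV) Z']
      exact congrArg (fun I => Scheme.IdealSheafData.comap I _) e
    · have e : overSMap (vV hV) k' ≫ e0 = h := huniq _ ((hkey k').symm.trans
        (congrArg (pushO f (gV f V) (jV f hV) (vV hV) (jV_comp f hV) T) hk'))
      refine Over.OverMorphism.ext ?_
      rw [← cancel_mono (H.hom ⁻¹ᵁ V).ι]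
      exact (congr($(e).left)).trans (IsOpenImmersion.lift_fac _ _ _).symm

variable {V}

/-- The dictionary between an affine piece of the family and its ideal. -/
theorem exists_dictionary {A : Type u} [CommRing A] [Algebra Γ(S, V) A]
    (a : overS (vV hV) (TA (σV V) A) ⟶ H) [IsOpenImmersion a.left] (K : Ideal (A ⊗[Γ(S, V)] Γ(X, f ⁻¹ᵁ V)))
    (hfl : Mor2.IsFinLocFreeOfDeg d ((famOf (σV V) K).subschemeι ≫ PicF.XTproj (gV f V) (TA (σV V) A)))
    (hK : HilbD.pull f a ZH.1 = pushO f (gV f V) (jV f hV) (vV hV) (jV_comp f hV) (TA (σV V) A) (famOf (σV V) K)) :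
    ∃ (hM : a.left.opensRange ≤ H.hom ⁻¹ᵁ V) (Φ : Γ(H.left, a.left.opensRange) →+* A)
      (Ψ : Γ(ZH.1.subscheme, piZ f H ZH ⁻¹ᵁ a.left.opensRange) →+* (A ⊗[Γ(S, V)] Γ(X, f ⁻¹ᵁ V)) ⧸ K),
      Function.Bijective Φ ∧ Function.Bijective Ψ ∧
      (∀ r, Ψ ((piZ f H ZH).app _ r) = algebraMap A _ (Φ r)) ∧
      (∀ x, Ψ (ev f H ZH V _ hM x) = Ideal.Quotient.mk K (1 ⊗ₜ x)) ∧
      ∀ s, Φ (H.hom.appLE V _ hM s) = algebraMap Γ(S, V) A s := by
  let ρ := ofHom (algebraMap A ((A ⊗[Γ(S, V)] Γ(X, f ⁻¹ᵁ V)) ⧸ K))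
  let k0 := Spec.map (ofHom (Ideal.Quotient.mk K)) ≫ incl Γ(X, f ⁻¹ᵁ V) (σV V) A
  let m := XOincl f (gV f V) (jV f hV) (vV hV) (jV_comp f hV) (TA (σV V) A)
  let k := k0 ≫ m
  have hk : k = k0.toImage ≫ (famOf (σV V) K).subschemeι ≫ m := by
    show k0 ≫ m = _
    conv_lhs => rw [← k0.toImage_imageι, Category.assoc]
    rfl
  haveI := H27HilbOps.isClosedImmersion_push f (gV f V) (jV f hV) (vV hV) (jV_comp f hV)
    (⟨famOf (σV V) K, hfl⟩ : HilbD.Obj (gV f V) d (TA (σV V) A))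
  haveI : IsClosedImmersion k := by
    rw [hk]
    exact MorphismProperty.comp_mem _ _ _ inferInstance inferInstance
  let p := pullback.snd ZH.1.subschemeι (PicF.XTmap f a)
  obtain ⟨e, he⟩ := exists_iso_of_ker_eq k p (by
    rw [hk, Scheme.Hom.ker_comp_of_isIso]
    exact hK.symm)
  let w := e.hom ≫ pullback.fst ZH.1.subschemeι (PicF.XTmap f a)
  have hw0 : IsPullback w k ZH.1.subschemeι (PicF.XTmap f a) :=
    IsPullback.of_iso (IsPullback.of_hasPullback ZH.1.subschemeι (PicF.XTmap f a)) e.symm (Iso.refl _)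
      (Iso.refl _) (Iso.refl _) (by simp [w]) (by simp [← he, p]) (by simp) (by simp)
  have hρ : k ≫ pullback.snd f (overS (vV hV) (TA (σV V) A)).hom = Spec.map ρ := by
    simp only [k, k0, m, Category.assoc, H27HilbOps.XOincl_snd]
    erw [H27HilbAff.incl_snd]
    rw [← Spec.map_comp]
    rfl
  have hsq : IsPullback w (Spec.map ρ) (piZ f H ZH) a.left := by
    rw [← hρ]
    exact hw0.paste_vert (H27HilbOps.isPullback_XTmap f a)
  have hwq : w ≫ qZ f H ZH = Spec.map (ofHom ((Ideal.Quotient.mk K).comp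
      (Algebra.TensorProduct.includeRight : Γ(X, f ⁻¹ᵁ V) →ₐ[Γ(S, V)] A ⊗[Γ(S, V)] Γ(X, f ⁻¹ᵁ V)).toRingHom)) ≫
      jV f hV := by
    show w ≫ ZH.1.subschemeι ≫ _ = _
    rw [reassoc_of% hw0.w]
    have : PicF.XTmap f a ≫ pullback.fst f H.hom = pullback.fst f (overS (vV hV) (TA (σV V) A)).hom := by
      simp [PicF.XTmap]
    rw [this]
    simp only [k, k0, m, Category.assoc, H27HilbOps.XOincl_fst]
    erw [reassoc_of% H27HilbAff.incl_fst (B := Γ(X, f ⁻¹ᵁ V)) (A := A) (σV V)]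
    rw [← Spec.map_comp_assoc]
    rfl
  haveI : IsOpenImmersion w := MorphismProperty.of_isPullback (P := @IsOpenImmersion) hsq.flip inferInstance
  have hwr : w.opensRange = piZ f H ZH ⁻¹ᵁ a.left.opensRange := by
    refine Opens.ext (Set.ext fun z => ⟨?_, ?_⟩)
    · rintro ⟨y, rfl⟩
      exact ⟨Spec.map ρ y, congr($(hsq.w) y).symm⟩
    · rintro ⟨y, hy⟩
      obtain ⟨t, ht, -⟩ := Scheme.Pullback.exists_preimage_pullback (f := piZ f H ZH) (g := a.left) z y hy.symm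
      refine ⟨hsq.isoPullback.inv t, ?_⟩
      rw [← Scheme.Hom.comp_apply, hsq.isoPullback_inv_fst]
      exact ht
  have hM : a.left.opensRange ≤ H.hom ⁻¹ᵁ V := by
    rintro _ ⟨y, rfl⟩
    show H.hom (a.left y) ∈ V
    rw [← Scheme.Hom.comp_apply, Over.w a]
    exact hV.range_fromSpec.subset ⟨_, rfl⟩
  have ha : ∀ y, a.left y ∈ a.left.opensRange := fun y => ⟨y, rfl⟩
  have hwm : ∀ z, w z ∈ piZ f H ZH ⁻¹ᵁ a.left.opensRange := fun z => hwr ▸ ⟨z, rfl⟩
  refine ⟨hM, secAt a.left _ ha, secAt w _ hwm, secAt_bijective _ rfl _, secAt_bijective _ hwr _,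
    fun r => ?_, fun x => ?_, fun s => ?_⟩
  · rw [Scheme.Hom.app_eq_appLE, ← secAt_comp, secAt_congr hsq.w]
    exact secAt_specMap (algebraMap A _) a.left _ ha r
  · rw [ev, ← secAt_comp (W := piZ f H ZH ⁻¹ᵁ a.left.opensRange), secAt_congr hwq,
      secAt_specMap _ (jV f hV) _ (fun q => (range_jV f hV).subset ⟨q, rfl⟩)]
    exact congrArg _ (secAt_fromSpec (hV.preimage f) _ x)
  · rw [← secAt_comp, secAt_congr (show a.left ≫ H.hom = Spec.map (ofHom (algebraMap Γ(S, V) A)) ≫ vV hV by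
      rw [Over.w a]; show (Spec.map _ ≫ 𝟙 _) ≫ _ = _; rw [Category.comp_id])]
    exact (secAt_specMap _ (vV hV) _ (fun q => hV.range_fromSpec.subset ⟨q, rfl⟩) s).trans
      (congrArg _ (secAt_fromSpec hV _ s))

end Groth.Agent.H27HilbProj
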