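/-
The frame locus of a tuple is a chart.
-/
import Groth.Agent.H27HilbProj.Chart

set_option autoImplicit false
set_option maxHeartbeats 400000
set_option backward.isDefEq.respectTransparency false
set_option backward.isDefEq.respectTransparency.types false

noncomputable section

universe u

open CategoryTheory CategoryTheory.Limits AlgebraicGeometry TopologicalSpace CommRingCat TensorProduct
open Groth.Agent.H11Proj (resF resF_resF resF_self)
open Groth.Agent.H27HilbOps (overS overSMap XOincl pushO pushOObj pullObj)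
open Groth.Agent.H27HilbAff (fB TA famOf IsCoord IsFramed tilde chart chartObj UnivRing gen univCoord locus)

namespace Groth.Agent.H27HilbProj

section emb

variable {R B : Type u} [CommRing R] [CommRing B] [Algebra R B] {S : Scheme.{u}}
  (σ : Spec (CommRingCat.of R) ⟶ S) [IsIso σ] {d : ℕ}

/-- Charts of the affine functor are open in any representing scheme. -/
theorem exists_chart_emb {T0 : Over S} (Z0 : HilbD.Obj (fB (B := B) σ) d T0)
    (hu : HilbD.IsUniversal (fB (B := B) σ) d T0 Z0) (b : Fin d → B) :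
    ∃ e : chart σ b ⟶ T0, IsOpenImmersion e.left ∧ HilbD.pull (fB σ) e Z0.1 = (chartObj σ b).1 ∧
      Set.range e.left = (locus σ b Z0 : Set T0.left) := by
  obtain ⟨e, he, -⟩ := hu _ (chartObj σ b)
  let L := locus σ b Z0
  let LT : Over S := Over.mk (L.ι ≫ T0.hom)
  let p : LT ⟶ T0 := Over.homMk L.ι rfl
  obtain ⟨h, hh⟩ := (H27HilbAff.factors_iff σ b Z0 p).2 L.range_ι.le
  have hre : Set.range e.left ⊆ Set.range L.ι := by
    rw [L.range_ι]
    exact (H27HilbAff.factors_iff σ b Z0 e).1 ⟨𝟙 _, Subtype.ext (by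
      show HilbD.pull (fB σ) (𝟙 _) (chartObj σ b).1 = HilbD.pull (fB σ) e Z0.1
      rw [H27HilbOps.pull_id]
      exact he.symm)⟩
  let e' : chart σ b ⟶ LT := Over.homMk (IsOpenImmersion.lift L.ι e.left hre) (by
    show IsOpenImmersion.lift L.ι e.left hre ≫ L.ι ≫ T0.hom = _
    rw [IsOpenImmersion.lift_fac_assoc]
    exact Over.w e)
  have he' : e' ≫ p = e := Over.OverMorphism.ext (IsOpenImmersion.lift_fac _ _ _)
  have hpull : HilbD.pull (fB σ) h (chartObj σ b).1 = HilbD.pull (fB σ) p Z0.1 :=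
    congrArg Subtype.val hh
  have hpe : h ≫ e = p := (hu LT (pullObj (fB σ) p Z0)).unique (by
    show HilbD.pull (fB σ) (h ≫ e) Z0.1 = _
    rw [H27HilbOps.pull_comp]
    exact (congrArg (HilbD.pull (fB σ) h) he).trans hpull) rfl
  have h1 : e' ≫ h = 𝟙 _ := H27HilbAff.chart_hom_ext σ b _ _ (by
    rw [H27HilbOps.pull_comp, hpull, ← H27HilbOps.pull_comp, he', H27HilbOps.pull_id]
    exact he)
  have h2 : h ≫ e' = 𝟙 _ := Over.OverMorphism.ext (by
    rw [← cancel_mono L.ι, Over.comp_left, Category.assoc]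
    show h.left ≫ IsOpenImmersion.lift L.ι e.left hre ≫ L.ι = 𝟙 _ ≫ L.ι
    rw [IsOpenImmersion.lift_fac, Category.id_comp]
    exact congr($(hpe).left))
  haveI : IsIso e'.left := ⟨h.left, congr($(h1).left), congr($(h2).left)⟩
  have hel : e.left = e'.left ≫ L.ι := (IsOpenImmersion.lift_fac L.ι e.left hre).symm
  refine ⟨e, by rw [hel]; infer_instance, he, subset_antisymm (hre.trans L.range_ι.le) fun x hx => ?_⟩
  exact ⟨h.left ⟨x, hx⟩, congr($(congrArg CommaMorphism.left hpe) ⟨x, hx⟩)⟩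

end emb

variable {X S : Scheme.{u}} (f : X ⟶ S) {d : ℕ} (H : Over S) (ZH : HilbD.Obj f d H) [IsFinite f]
  {V : S.Opens} (hV : IsAffineOpen V)

/-- A tuple evaluated on the family. -/
abbrev evt (U : S.Opens) (T : H.left.Opens) (h : T ≤ H.hom ⁻¹ᵁ U) (b : Fin d → Γ(X, f ⁻¹ᵁ U)) :
    Fin d → Γ(ZH.1.subscheme, piZ f H ZH ⁻¹ᵁ T) :=
  fun j => ev f H ZH U T h (b j)

theorem vres_evt {U : S.Opens} {T T' : H.left.Opens} (h : T ≤ H.hom ⁻¹ᵁ U) (i : T' ≤ T)
    (b : Fin d → Γ(X, f ⁻¹ᵁ U)) : vres (piZ f H ZH) i (evt f H ZH U T h b) = evt f H ZH U T' (i.trans h) b :=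
  funext fun _ => ev_res f H ZH h i _

instance isAffineHom_piZ : IsAffineHom (piZ f H ZH) := by
  haveI : IsFinite (piZ f H ZH) := ZH.2.1.1
  infer_instance

variable {A : Type u} [CommRing A] [Algebra Γ(S, V) A] {M : H.left.Opens}
  {K : Ideal (A ⊗[Γ(S, V)] Γ(X, f ⁻¹ᵁ V))} (hM : M ≤ H.hom ⁻¹ᵁ V) (Φ : Γ(H.left, M) →+* A)
  (Ψ : Γ(ZH.1.subscheme, piZ f H ZH ⁻¹ᵁ M) →+* (A ⊗[Γ(S, V)] Γ(X, f ⁻¹ᵁ V)) ⧸ K)
  (hΦ : Function.Bijective Φ) (hΨ : Function.Bijective Ψ)
  (hr : ∀ r, Ψ ((piZ f H ZH).app M r) = algebraMap A _ (Φ r))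
  (hx : ∀ x, Ψ (ev f H ZH V M hM x) = Ideal.Quotient.mk K (1 ⊗ₜ x))
  (hs : ∀ s, Φ (H.hom.appLE V M hM s) = algebraMap Γ(S, V) A s)
  {b : Fin d → Γ(X, f ⁻¹ᵁ V)}

include hr hx in
theorem psi_comb (c : Fin d → Γ(H.left, M)) :
    Ψ (comb (piZ f H ZH) (evt f H ZH V M hM b) c) = Ideal.Quotient.mk K (∑ i, Φ (c i) • ((1 : A) ⊗ₜ b i)) := by
  rw [comb, map_sum, map_sum]
  refine Finset.sum_congr rfl fun i _ => ?_
  rw [map_mul, hr, hx, Algebra.smul_def, map_mul]
  rfl

include hΦ hΨ hr hx in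
theorem isFrame_of_isFramed (hMa : IsAffineOpen M) {φ : Γ(X, f ⁻¹ᵁ V) →ₗ[Γ(S, V)] (Fin d → A)}
    (hφ : IsCoord K φ) (hb : ∀ j, φ (b j) = Pi.single j 1) :
    ∃ hv : IsFrame (piZ f H ZH) (evt f H ZH V M hM b),
      ∀ x i, Φ (coord hv (ev f H ZH V M hM x) i) = φ x i := by
  have ht : ∀ c : Fin d → A, tilde φ (∑ i, c i • ((1 : A) ⊗ₜ b i)) = c := fun c => by
    simp only [map_sum, map_smul, H27HilbAff.tilde_tmul, one_smul, hb]
    exact (pi_eq_sum_univ' c).symm
  have hbij : Function.Bijective (comb (piZ f H ZH) (evt f H ZH V M hM b)) := by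
    constructor
    · intro c c' hc
      have h := congrArg Ψ hc
      rw [psi_comb f H ZH hM Φ Ψ hr hx, psi_comb f H ZH hM Φ Ψ hr hx, Ideal.Quotient.eq, hφ.mem_iff, map_sub,
        sub_eq_zero, ht, ht] at h
      exact funext fun i => hΦ.1 (congrFun h i)
    · intro z
      obtain ⟨w, hw⟩ := Ideal.Quotient.mk_surjective (Ψ z)
      choose c hc using fun i => hΦ.2 (tilde φ w i)
      refine ⟨c, hΨ.1 ?_⟩
      rw [psi_comb f H ZH hM Φ Ψ hr hx, ← hw, Ideal.Quotient.eq, hφ.mem_iff, map_sub, sub_eq_zero, ht]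
      exact funext hc
  refine ⟨isFrame_of_bijective hMa hbij, fun x i => ?_⟩
  choose c hc using fun i => hΦ.2 (φ x i)
  rw [coord_eq _ (c := c) (hΨ.1 ?_), hc]
  rw [psi_comb f H ZH hM Φ Ψ hr hx, hx, Ideal.Quotient.eq, hφ.mem_iff, map_sub, sub_eq_zero, ht,
    H27HilbAff.tilde_tmul, one_smul]
  exact funext hc

include hΦ hΨ hr hx hs in
theorem isFramed_of_isFrame (hv : IsFrame (piZ f H ZH) (evt f H ZH V M hM b)) : IsFramed K b := by
  let φ : Γ(X, f ⁻¹ᵁ V) →ₗ[Γ(S, V)] (Fin d → A) :=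
    { toFun := fun x i => Φ (coord hv (ev f H ZH V M hM x) i)
      map_add' := fun x y => funext fun i => by
        show Φ _ = Φ _ + Φ _
        rw [map_add (ev f H ZH V M hM), coord_add, Pi.add_apply, map_add]
      map_smul' := fun s x => funext fun i => by
        have e : ev f H ZH V M hM (s • x) = (piZ f H ZH).app M (H.hom.appLE V M hM s) * ev f H ZH V M hM x := by
          rw [← ev_app f H ZH hM, ← map_mul]
          rfl
        simp only [RingHom.id_apply, Pi.smul_apply]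
        rw [e, coord_app_mul, Pi.smul_apply, smul_eq_mul, map_mul, hs, Algebra.smul_def] }
  have key : ∀ w, Ψ (comb (piZ f H ZH) (evt f H ZH V M hM b) (fun i => (hΦ.2 (tilde φ w i)).choose)) =
      Ideal.Quotient.mk K w := fun w => by
    rw [psi_comb f H ZH hM Φ Ψ hr hx]
    simp only [(hΦ.2 _).choose_spec]
    induction w using TensorProduct.induction_on with
    | zero => simp
    | tmul a x =>
      have hxe := hx x
      rw [← comb_coord hv (ev f H ZH V M hM x), psi_comb f H ZH hM Φ Ψ hr hx] at hxe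
      rw [show (a ⊗ₜ[Γ(S, V)] x : A ⊗[Γ(S, V)] Γ(X, f ⁻¹ᵁ V)) = a • ((1 : A) ⊗ₜ x) by
        rw [TensorProduct.smul_tmul', smul_eq_mul, mul_one]]
      simp only [map_smul, Pi.smul_apply, H27HilbAff.tilde_tmul, one_smul, smul_eq_mul, mul_smul, ← Finset.smul_sum]
      rw [Algebra.smul_def, Algebra.smul_def, map_mul, map_mul]
      exact congrArg _ hxe
    | add p q hp hq =>
      simp only [map_add, Pi.add_apply, add_smul, Finset.sum_add_distrib]
      rw [hp, hq]
  have hb : ∀ j, φ (b j) = Pi.single j 1 := fun j => funext fun i => by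
    show Φ (coord hv (evt f H ZH V M hM b j) i) = _
    rw [coord_self, Pi.single_apply, Pi.single_apply, apply_ite Φ, map_one, map_zero]
  refine ⟨φ, ⟨fun w => ⟨fun hw => ?_, fun hw => ?_⟩, fun c => ⟨∑ i, c i • ((1 : A) ⊗ₜ b i), ?_⟩⟩, hb⟩
  · have h := key w
    rw [Ideal.Quotient.eq_zero_iff_mem.2 hw, ← map_zero Ψ,
      ← show comb (piZ f H ZH) (evt f H ZH V M hM b) 0 = 0 by simp [comb]] at h
    funext i
    have := congrFun (hv.comb_bijective.1 (hΨ.1 h)) i
    rw [← (hΦ.2 (tilde φ w i)).choose_spec, this]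
    exact map_zero Φ
  · have h0 : ∀ i, (hΦ.2 (tilde φ w i)).choose = (0 : Γ(H.left, M)) := fun i => hΦ.1 (by
      rw [(hΦ.2 _).choose_spec, hw, map_zero]; rfl)
    rw [← Ideal.Quotient.eq_zero_iff_mem, ← key w, funext h0]
    simp [comb]
  · simp only [map_sum, map_smul, H27HilbAff.tilde_tmul, one_smul, hb]
    exact (pi_eq_sum_univ' c).symm

omit [IsFinite f] in
/-- The coordinates of generators generate a chart ring. -/
theorem univRing_closure {n : ℕ} (G : Fin n → Γ(X, f ⁻¹ᵁ V)) (hG : Submodule.span Γ(S, V) (Set.range G) = ⊤)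
    (b : Fin d → Γ(X, f ⁻¹ᵁ V)) (y : UnivRing Γ(S, V) b) :
    y ∈ Subring.closure (Set.range (algebraMap Γ(S, V) (UnivRing Γ(S, V) b)) ∪
      Set.range fun p : Fin n × Fin d => gen Γ(S, V) b (G p.1) p.2) := by
  set Rg := Subring.closure (Set.range (algebraMap Γ(S, V) (UnivRing Γ(S, V) b)) ∪
      Set.range fun p : Fin n × Fin d => gen Γ(S, V) b (G p.1) p.2)
  have hgen : ∀ x i, gen Γ(S, V) b x i ∈ Rg := by
    intro x i
    obtain ⟨c, hc⟩ := (Submodule.mem_span_range_iff_exists_fun _).1 (hG ▸ Submodule.mem_top : x ∈ _)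
    show univCoord Γ(S, V) b x i ∈ Rg
    rw [← hc, map_sum, Finset.sum_apply]
    refine Subring.sum_mem _ fun l _ => ?_
    rw [map_smul, Pi.smul_apply]
    convert mul_mem (Subring.subset_closure (Or.inl ⟨c l, rfl⟩) : _ ∈ Rg)
      (Subring.subset_closure (Or.inr ⟨(l, i), rfl⟩) : _ ∈ Rg) using 1
    exact Algebra.smul_def (c l) (gen Γ(S, V) b (G l) i)
  obtain ⟨P, rfl⟩ := Ideal.Quotient.mk_surjective y
  induction P using MvPolynomial.induction_on with
  | C r => exact Subring.subset_closure (Or.inl ⟨r, rfl⟩)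
  | add P Q hP hQ => rw [map_add]; exact add_mem hP hQ
  | mul_X P l hP => rw [map_mul]; exact mul_mem hP (hgen l.1 l.2)

variable (hu : HilbD.IsUniversal f d H ZH)

include hu hV in
/-- Every point over an affine open is in some chart, and charts are the frame loci. -/
theorem exists_chartOpen : ∃ M : (Fin d → Γ(X, f ⁻¹ᵁ V)) → H.left.Opens,
    (∀ x ∈ H.hom ⁻¹ᵁ V, ∃ b, x ∈ M b) ∧
    ∀ b, ∃ hM : M b ≤ H.hom ⁻¹ᵁ V, IsAffineOpen (M b) ∧
      (∀ T (hT : T ≤ H.hom ⁻¹ᵁ V), IsFrame (piZ f H ZH) (evt f H ZH V T hT b) → T ≤ M b) ∧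
      ∃ hv : IsFrame (piZ f H ZH) (evt f H ZH V (M b) hM b),
        ∀ (n : ℕ) (G : Fin n → Γ(X, f ⁻¹ᵁ V)), Submodule.span Γ(S, V) (Set.range G) = ⊤ →
          Subring.closure (Set.range (H.hom.appLE V (M b) hM) ∪
            Set.range fun p : Fin n × Fin d => coord hv (ev f H ZH V (M b) hM (G p.1)) p.2) = ⊤ := by
  obtain ⟨T0, Z0, e0, ho, hrange, hpull, hu0⟩ := exists_restrict f H ZH V hV
  haveI := ho
  have hu0 := hu0 hu
  choose e heo hep her using fun b => exists_chart_emb (σV V) Z0 hu0 b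
  let c : ∀ b : Fin d → Γ(X, f ⁻¹ᵁ V), overS (vV hV) (chart (σV V) b) ⟶ H :=
    fun b => overSMap (vV hV) (e b) ≫ e0
  have hc : ∀ b, IsOpenImmersion (c b).left := fun b => by
    haveI := heo b
    exact inferInstanceAs (IsOpenImmersion ((e b).left ≫ e0.left))
  have hcp : ∀ {T : Over (Spec (CommRingCat.of Γ(S, V)))} (k : T ⟶ T0), HilbD.pull f (overSMap (vV hV) k ≫ e0) ZH.1 =
      pushO f (gV f V) (jV f hV) (vV hV) (jV_comp f hV) T (HilbD.pull (gV f V) k Z0.1) := fun k => by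
    rw [← H27HilbOps.pull_pushO, ← hpull, H27HilbOps.pull_comp]
  let M := fun b => @Scheme.Hom.opensRange _ _ (c b).left (hc b)
  refine ⟨M, fun x hx => ?_, fun b => ?_⟩
  · obtain ⟨y, rfl⟩ := hrange.superset hx
    obtain ⟨b, hb⟩ := H27HilbAff.exists_mem_locus (σV V) Z0 y
    obtain ⟨z, hz⟩ := (her b).superset hb
    exact ⟨b, z, congrArg e0.left hz⟩
  haveI := hc b
  have hKc : HilbD.pull f (c b) ZH.1 = pushO f (gV f V) (jV f hV) (vV hV) (jV_comp f hV) _
      (famOf (A := UnivRing Γ(S, V) b) (σV V) (H27HilbAff.univIdeal Γ(S, V) b)) := by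
    rw [hcp, hep]
    rfl
  obtain ⟨hM, Φ, Ψ, hΦ, hΨ, hr, hx, hs⟩ := exists_dictionary f H ZH hV (c b)
    (H27HilbAff.univIdeal Γ(S, V) b) (chartObj (σV V) b).2 hKc
  haveI : IsAffine (overS (vV hV) (chart (σV V) b)).left :=
    inferInstanceAs (IsAffine (Spec (CommRingCat.of (UnivRing Γ(S, V) b))))
  have hMa : IsAffineOpen (M b) := isAffineOpen_opensRange _
  obtain ⟨hv, hcoord⟩ := isFrame_of_isFramed f H ZH hM Φ Ψ hΦ hΨ hr hx hMa
    (H27HilbAff.univIdeal_isCoord Γ(S, V) b) (H27HilbAff.univCoord_frame Γ(S, V) b)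
  refine ⟨hM, hMa, fun T hT hTf x hxT => ?_, hv, fun n G hG => eq_top_iff.2 fun z _ => ?_⟩
  · obtain ⟨W, hW, hxW, hWT⟩ := exists_isAffineOpen_mem_and_subset (x := x) (U := T) hxT
    have hr0 : Set.range hW.fromSpec ⊆ Set.range e0.left := by
      rw [hW.range_fromSpec, hrange]
      exact fun z hz => hT (hWT hz)
    obtain ⟨alg, a0, ha0⟩ := H27HilbAff.exists_algebra_of_hom (σV V) (C := Γ(H.left, W))
      (T := T0) (IsOpenImmersion.lift e0.left hW.fromSpec hr0)
    let a : overS (vV hV) (TA (σV V) Γ(H.left, W)) ⟶ H := overSMap (vV hV) a0 ≫ e0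
    have hal : a.left = hW.fromSpec := by
      show a0.left ≫ e0.left = _
      rw [ha0]
      exact IsOpenImmersion.lift_fac _ _ _
    haveI : IsOpenImmersion a.left := by rw [hal]; infer_instance
    obtain ⟨K, hK⟩ := H27HilbAff.exists_famOf (σV V) (HilbD.pull (gV f V) a0 Z0.1)
    obtain ⟨hMa', Φ', Ψ', hΦ', hΨ', hr', hx', hs'⟩ := exists_dictionary f H ZH hV a K
      (hK ▸ (pullObj (gV f V) a0 Z0).2) (by rw [hcp, hK])
    have hle : a.left.opensRange ≤ T := fun z hz => hWT (by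
      obtain ⟨y, rfl⟩ := hz
      exact hW.range_fromSpec.subset ⟨y, (congr($hal y)).symm⟩)
    have hf := isFramed_of_isFrame f H ZH hMa' Φ' Ψ' hΦ' hΨ' hr' hx' hs' (b := b) (by
      have := hTf.res hle
      rwa [vres_evt] at this)
    obtain ⟨h, hh⟩ := H27HilbAff.exists_classify (σV V) b hf
    have hha : h ≫ e b = a0 := (hu0 _ (pullObj (gV f V) a0 Z0)).unique (by
      show HilbD.pull (gV f V) (h ≫ e b) Z0.1 = HilbD.pull (gV f V) a0 Z0.1
      rw [H27HilbOps.pull_comp, ← hK, ← hh]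
      exact congrArg (HilbD.pull (gV f V) h) (hep b)) rfl
    obtain ⟨y, hy⟩ := hW.range_fromSpec.superset hxW
    refine ⟨h.left y, ?_⟩
    rw [← hy, ← congr($hal y)]
    show e0.left ((e b).left (h.left y)) = e0.left (a0.left y)
    rw [← Scheme.Hom.comp_apply h.left, ← Over.comp_left, hha]
  · have h := univRing_closure f G hG b (Φ z)
    suffices hle : Subring.closure (Set.range (algebraMap Γ(S, V) (UnivRing Γ(S, V) b)) ∪
        Set.range fun p : Fin n × Fin d => gen Γ(S, V) b (G p.1) p.2) ≤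
        (Subring.closure (Set.range (H.hom.appLE V (M b) hM) ∪
          Set.range fun p : Fin n × Fin d => coord hv (ev f H ZH V (M b) hM (G p.1)) p.2)).map Φ by
      obtain ⟨w, hw, e⟩ := hle h
      exact hΦ.1 e ▸ hw
    refine Subring.closure_le.2 ?_
    rintro _ (⟨s, rfl⟩ | ⟨p, rfl⟩)
    · exact ⟨_, Subring.subset_closure (Or.inl ⟨s, rfl⟩), hs s⟩
    · exact ⟨_, Subring.subset_closure (Or.inr ⟨p, rfl⟩), hcoord _ _⟩

end Groth.Agent.H27HilbProj
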