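/-
The determinant line bundle of a morphism with local frames, and its wedge sections.
-/
import Groth.Agent.H27HilbProj.Frame
import Groth.Agent.H7Flat.LineCocycle

set_option autoImplicit false
set_option backward.isDefEq.respectTransparency false
set_option linter.style.haveILetI false

noncomputable section

universe u

open CategoryTheory AlgebraicGeometry TopologicalSpace Opposite
open Groth.Agent.H11Proj (resF resF_resF resF_self resS resS_resS genAt le_genAt genAt_le Chart)
open Groth.Agent.H7Flat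

namespace Groth.Agent.H27HilbProj

variable {Z H : Scheme.{u}} {π : Z ⟶ H} {d : ℕ}

theorem mat_congr {T : H.Opens} {v v' w w' : Fin d → Γ(Z, π ⁻¹ᵁ T)} (hv : IsFrame π v) (hv' : IsFrame π v')
    (e : v = v') (e' : w = w') : mat hv w = mat hv' w' := by subst e e'; rfl

variable (π d) in
/-- An open with a frame. -/
structure Frm where
  T : H.Opens
  v : Fin d → Γ(Z, π ⁻¹ᵁ T)
  isFrame : IsFrame π v

namespace Frm

variable (a b : Frm π d) {W : H.Opens} (w : Fin d → Γ(Z, π ⁻¹ᵁ W))

/-- The determinant of a tuple in a frame, on a common open. -/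
def detT (T : H.Opens) (ha : T ≤ a.T) (hW : T ≤ W) : Γ(H, T) :=
  (mat (a.isFrame.res ha) (vres π hW w)).det

theorem detT_res {T T' : H.Opens} (ha : T ≤ a.T) (hW : T ≤ W) (h : T' ≤ T) :
    resF h (a.detT w T ha hW) = a.detT w T' (h.trans ha) (h.trans hW) := by
  rw [detT, ← det_res (a.isFrame.res ha) h]
  exact congrArg Matrix.det (mat_congr _ _ (vres_vres π h ha _) (vres_vres π h hW _))

theorem detT_vres {W' T : H.Opens} (i : W' ≤ W) (ha : T ≤ a.T) (hW : T ≤ W') :
    a.detT (vres π i w) T ha hW = a.detT w T ha (hW.trans i) :=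
  congrArg Matrix.det (mat_congr _ _ rfl (vres_vres π hW i _))

theorem detT_mul (T : H.Opens) (ha : T ≤ a.T) (hb : T ≤ b.T) (hW : T ≤ W) :
    a.detT w T ha hW = a.detT b.v T ha hb * b.detT w T hb hW := by
  rw [detT, mat_mul (a.isFrame.res ha) (b.isFrame.res hb) (vres π hW w), Matrix.det_mul]
  rfl

theorem isUnit_detT (T : H.Opens) (ha : T ≤ a.T) (hb : T ≤ b.T) : IsUnit (a.detT b.v T ha hb) :=
  isUnit_det (a.isFrame.res ha) (b.isFrame.res hb)

end Frm

variable (hcov : ∀ x : H, ∃ a : Frm π d, x ∈ a.T)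

/-- The cocycle of determinants of frames. -/
def detData : LineCocycle.Data H where
  J := Frm π d
  V := Frm.T
  g a b := a.detT b.v (a.T ⊓ b.T) inf_le_left inf_le_right
  isUnit a b := a.isUnit_detT b _ _ _
  cocycle a b c T ha hb hc := by
    change resF _ _ * resF _ _ = resF _ _
    rw [Frm.detT_res, Frm.detT_res, Frm.detT_res]
    exact (a.detT_mul b c.v T ha hb hc).symm
  cover := hcov

/-- The determinant line bundle. -/
abbrev detLine : H.Modules := LineCocycle.line (detData hcov)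

theorem isInvertible_detLine : PicF.IsInvertible (detLine hcov) := LineCocycle.isInvertible_line _

/-- The wedge of a tuple. -/
def secDet {W : H.Opens} (w : Fin d → Γ(Z, π ⁻¹ᵁ W)) : Γ(detLine hcov, W) :=
  show LineCocycle.Fam (detData hcov) W from
    ⟨fun a => a.detT w (W ⊓ a.T) inf_le_right inf_le_left, fun a b T hT ha hb => by
      change resF _ (Frm.detT a w _ _ _) = resF _ (Frm.detT a b.v _ _ _) * resF _ (Frm.detT b w _ _ _)
      rw [Frm.detT_res, Frm.detT_res, Frm.detT_res]
      exact a.detT_mul b w T ha hb hT⟩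

theorem fam_ext {W : H.Opens} {s t : Γ(detLine hcov, W)}
    (h : ∀ a, (s : LineCocycle.Fam (detData hcov) W).1 a = (t : LineCocycle.Fam (detData hcov) W).1 a) :
    s = t :=
  Subtype.ext (funext h)

theorem secDet_res {W W' : H.Opens} (i : W' ≤ W) (w : Fin d → Γ(Z, π ⁻¹ᵁ W)) :
    resS (detLine hcov) i (secDet hcov w) = secDet hcov (vres π i w) := by
  refine fam_ext hcov fun a => ?_
  change resF _ (Frm.detT a w _ _ _) = Frm.detT a (vres π i w) _ _ _
  rw [Frm.detT_res, Frm.detT_vres]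

theorem secDet_eq_smul {W : H.Opens} {w : Fin d → Γ(Z, π ⁻¹ᵁ W)} (hw : IsFrame π w)
    (v : Fin d → Γ(Z, π ⁻¹ᵁ W)) : secDet hcov v = (mat hw v).det • secDet hcov w := by
  refine fam_ext hcov fun a => ?_
  change Frm.detT a v _ _ _ = resF inf_le_left (mat hw v).det * Frm.detT a w _ _ _
  rw [← det_res hw inf_le_left, mul_comm]
  exact a.detT_mul ⟨W, w, hw⟩ v _ inf_le_right inf_le_left inf_le_left

theorem isGen_secDet {W : H.Opens} {w : Fin d → Γ(Z, π ⁻¹ᵁ W)} (hw : IsFrame π w) :
    H11Tilde.IsGen (detLine hcov) (secDet hcov w) := by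
  have e : secDet hcov w = LineCocycle.gen (detData hcov) (⟨W, w, hw⟩ : Frm π d) := by
    refine fam_ext hcov fun a => ?_
    change Frm.detT a w _ _ _ = resF _ (Frm.detT a w _ _ _)
    rw [Frm.detT_res]
  rw [e]
  exact LineCocycle.isGen_gen (detData hcov) (⟨W, w, hw⟩ : Frm π d)

theorem le_genAt_secDet {W T : H.Opens} (w : Fin d → Γ(Z, π ⁻¹ᵁ W)) (h : T ≤ W)
    (hT : IsFrame π (vres π h w)) : T ≤ genAt (detLine hcov) (secDet hcov w) :=
  le_genAt _ h (by rw [secDet_res]; exact isGen_secDet hcov hT)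

theorem exists_isFrame_of_mem_genAt {W : H.Opens} (w : Fin d → Γ(Z, π ⁻¹ᵁ W)) {x : H}
    (hx : x ∈ genAt (detLine hcov) (secDet hcov w)) :
    ∃ (T : H.Opens) (h : T ≤ W), x ∈ T ∧ IsFrame π (vres π h w) := by
  obtain ⟨a, ha⟩ := hcov x
  let c : Chart (detLine hcov) := ⟨a.T, secDet hcov a.v, isGen_secDet hcov a.isFrame⟩
  let δ := c.coef (secDet hcov w)
  have hxT : x ∈ H.basicOpen δ := by
    rw [← Chart.genAt_inf]; exact ⟨ha, hx⟩
  have hle : H.basicOpen δ ≤ a.T ⊓ W := H.basicOpen_le δ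
  refine ⟨H.basicOpen δ, hle.trans inf_le_right, hxT,
    isFrame_of_isUnit_det (a.isFrame.res (hle.trans inf_le_left)) ?_⟩
  have h1 : a.detT w (H.basicOpen δ) (hle.trans inf_le_left) (hle.trans inf_le_right) =
      resF (le_inf (hle.trans inf_le_left) (hle.trans inf_le_right)) δ := by
    refine c.eq_coef (secDet hcov w) (hle.trans inf_le_left) (hle.trans inf_le_right) ?_
    rw [secDet_res, secDet_res, secDet_eq_smul hcov (a.isFrame.res (hle.trans inf_le_left))]
    rfl
  change IsUnit (a.detT w (H.basicOpen δ) (hle.trans inf_le_left) (hle.trans inf_le_right))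
  rw [h1]
  exact H.toRingedSpace.isUnit_res_basicOpen δ

/-- The wedge is multilinear. -/
theorem secDet_sum {W : H.Opens} {n : ℕ} (e : Fin n → Γ(Z, π ⁻¹ᵁ W)) (c : Fin d → Fin n → Γ(H, W)) :
    secDet hcov (fun j => ∑ l, π.app W (c j l) * e l) =
      ∑ σ : Fin d → Fin n, (∏ j, c j (σ j)) • secDet hcov (fun j => e (σ j)) := by
  refine fam_ext hcov fun a => ?_
  have hsum : ∀ g : (Fin d → Fin n) → Γ(detLine hcov, W),
      ((∑ σ, g σ : Γ(detLine hcov, W)) : LineCocycle.Fam (detData hcov) W).1 a =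
        ∑ σ, (g σ : LineCocycle.Fam (detData hcov) W).1 a := fun g =>
    map_sum (AddMonoidHom.mk' (fun s : LineCocycle.Fam (detData hcov) W => s.1 a) fun _ _ => rfl) g _
  rw [hsum]
  change Frm.detT a _ _ _ _ = ∑ σ : Fin d → Fin n, resF (inf_le_left : W ⊓ Frm.T a ≤ W) (∏ j, c j (σ j)) * Frm.detT a _ _ _ _
  have hrow : (mat (a.isFrame.res inf_le_right) (vres π (inf_le_left : W ⊓ a.T ≤ W)
      (fun j => ∑ l, π.app W (c j l) * e l))).transpose =
      fun j => ∑ l, resF (inf_le_left : W ⊓ Frm.T a ≤ W) (c j l) •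
        coord (a.isFrame.res (inf_le_right : W ⊓ a.T ≤ a.T)) (resF (π.preimage_mono inf_le_left) (e l)) := by
    funext j
    show coord (a.isFrame.res inf_le_right) (resF (π.preimage_mono inf_le_left) (∑ l, π.app W (c j l) * e l)) = _
    rw [map_sum]
    refine (map_sum (AddMonoidHom.mk' (coord (a.isFrame.res (inf_le_right : W ⊓ a.T ≤ a.T)))
      (coord_add _)) _ _).trans (Finset.sum_congr rfl fun l _ => ?_)
    show coord (a.isFrame.res (inf_le_right : W ⊓ Frm.T a ≤ Frm.T a))
      (resF (π.preimage_mono (inf_le_left : W ⊓ Frm.T a ≤ W)) (π.app W (c j l) * e l)) = _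
    rw [map_mul, resF_app π (inf_le_left : W ⊓ a.T ≤ W), coord_app_mul]
  rw [Frm.detT, ← Matrix.det_transpose, hrow]
  refine (Matrix.detRowAlternating.toMultilinearMap.map_sum _).trans (Finset.sum_congr rfl fun σ _ => ?_)
  rw [MultilinearMap.map_smul_univ, map_prod, Frm.detT, ← Matrix.det_transpose]
  rfl

end Groth.Agent.H27HilbProj
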