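/-
Module generators of the functions over an affine open restrict to generators.
-/
import Groth.Agent.H27HilbProj.Frame
import Groth.Agent.H27HilbProj.Represent

set_option autoImplicit false
set_option backward.isDefEq.respectTransparency false

noncomputable section

universe u

open CategoryTheory AlgebraicGeometry TopologicalSpace
open Groth.Agent.H11Proj (resF resF_resF resF_self)

namespace Groth.Agent.H27HilbProj

variable {X S : Scheme.{u}} (f : X ⟶ S)

theorem exists_gens [IsFinite f] {U : S.Opens} (hU : IsAffineOpen U) :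
    ∃ (n : ℕ) (G : Fin n → Γ(X, f ⁻¹ᵁ U)), Submodule.span Γ(S, U) (Set.range G) = ⊤ := by
  haveI : Module.Finite Γ(S, U) Γ(X, f ⁻¹ᵁ U) := f.finite_app U hU
  exact Module.Finite.exists_fin

theorem span_res [IsAffineHom f] {U V : S.Opens} (hU : IsAffineOpen U) (hV : IsAffineOpen V) (i : V ≤ U)
    {n : ℕ} (G : Fin n → Γ(X, f ⁻¹ᵁ U)) (hG : Submodule.span Γ(S, U) (Set.range G) = ⊤) :
    Submodule.span Γ(S, V) (Set.range fun l => resF (f.preimage_mono i) (G l)) = ⊤ := by
  classical
  set N := Submodule.span Γ(S, V) (Set.range fun l => resF (f.preimage_mono i) (G l)) with hN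
  have hx : ∀ x : V, ∃ (r : Γ(S, V)) (s : Γ(S, U)), S.basicOpen r = S.basicOpen s ∧ x.1 ∈ S.basicOpen r := by
    intro x
    obtain ⟨r, s, h, hxr⟩ := exists_basicOpen_le_affine_inter hV hU x.1 ⟨x.2, i x.2⟩
    exact ⟨r, s, h, hxr⟩
  choose r s hrs hxr using hx
  refine eq_top_iff.2 fun z _ => ?_
  refine Submodule.mem_of_span_eq_top_of_smul_pow_mem N (Set.range r) ?_ z ?_
  · rw [← hV.iSup_basicOpen_eq_self_iff]
    refine le_antisymm (iSup_le fun a => S.basicOpen_le _) fun a ha => Opens.mem_iSup.2 ⟨⟨_, ⟨a, ha⟩, rfl⟩, hxr _⟩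
  rintro ⟨_, x, rfl⟩
  let W := S.basicOpen (r x)
  have hWV : W ≤ V := S.basicOpen_le _
  haveI := hV.isLocalization_basicOpen (r x)
  haveI := (hV.preimage f).isLocalization_of_eq_basicOpen (f.app V (r x))
    (V := f ⁻¹ᵁ W) (homOfLE (f.preimage_mono hWV)) (Scheme.preimage_basicOpen f (r x))
  letI : Algebra Γ(X, f ⁻¹ᵁ V) Γ(X, f ⁻¹ᵁ W) := (resF (f.preimage_mono hWV)).toAlgebra
  have hWU : W ≤ U := hWV.trans i
  haveI := (hU.preimage f).isLocalization_of_eq_basicOpen (f.app U (s x))
    (V := f ⁻¹ᵁ W) (homOfLE (f.preimage_mono hWU)) (by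
      rw [show W = S.basicOpen (s x) from hrs x]; exact Scheme.preimage_basicOpen f (s x))
  -- coefficients over `W`
  obtain ⟨c, hc⟩ : ∃ c : Fin n → Γ(S, W),
      resF (f.preimage_mono hWV) z = ∑ l, f.app W (c l) * resF (f.preimage_mono hWU) (G l) := by
    letI : Algebra Γ(X, f ⁻¹ᵁ U) Γ(X, f ⁻¹ᵁ W) := (resF (f.preimage_mono hWU)).toAlgebra
    obtain ⟨m, w, hw⟩ := IsLocalization.Away.surj (f.app U (s x)) (resF (f.preimage_mono hWV) z)
    obtain ⟨a, ha⟩ := (Submodule.mem_span_range_iff_exists_fun Γ(S, U)).1 (hG ▸ Submodule.mem_top : w ∈ _)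
    obtain ⟨v, hv⟩ : IsUnit (resF hWU (s x) ^ m) := by
      refine IsUnit.pow _ ?_
      have h := S.toRingedSpace.isUnit_res_basicOpen (s x)
      have e := h.map (resF (le_of_eq (hrs x) : W ≤ S.basicOpen (s x)))
      convert e using 1
      exact (resF_resF _ _ _).symm
    refine ⟨fun l => (v⁻¹).1 * resF hWU (a l), ?_⟩
    have hw' : resF (f.preimage_mono hWV) z * f.app W (resF hWU (s x) ^ m) =
        ∑ l, f.app W (resF hWU (a l)) * resF (f.preimage_mono hWU) (G l) := by
      rw [map_pow, ← resF_app f hWU]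
      refine hw.trans ?_
      rw [RingHom.algebraMap_toAlgebra, ← ha, map_sum]
      exact Finset.sum_congr rfl fun l _ => by
        rw [Algebra.smul_def, map_mul, RingHom.algebraMap_toAlgebra]
        exact congrArg (· * _) (resF_app f hWU (a l))
    simp only [map_mul, mul_assoc, ← Finset.mul_sum]
    rw [← hw', mul_left_comm, ← map_mul, ← hv, Units.inv_mul, map_one, mul_one]
  choose p c' hc' using fun l => IsLocalization.Away.surj (r x) (c l)
  let P := Finset.univ.sup p
  let a : Fin n → Γ(S, V) := fun l => r x ^ (P - p l) * c' l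
  have ha : ∀ l, resF hWV (a l) = resF hWV (r x) ^ P * c l := fun l => by
    simp only [a, map_mul, map_pow]
    rw [show resF hWV (c' l) = _ from (hc' l).symm]
    conv_rhs => rw [← Nat.sub_add_cancel (show p l ≤ P from Finset.le_sup (f := p) (Finset.mem_univ l)),
      pow_add, mul_assoc, mul_comm _ (c l)]
    rfl
  let y := f.app V (r x ^ P) * z - ∑ l, f.app V (a l) * resF (f.preimage_mono i) (G l)
  have hy : resF (f.preimage_mono hWV) y = 0 := by
    simp only [y, map_sub, map_sum, map_mul, resF_app f hWV, resF_resF, ha, map_pow, sub_eq_zero]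
    rw [hc, Finset.mul_sum]
    exact Finset.sum_congr rfl fun l _ => (mul_assoc _ _ _).symm
  obtain ⟨⟨_, k, rfl⟩, hk⟩ := (IsLocalization.map_eq_zero_iff (Submonoid.powers (f.app V (r x)))
    Γ(X, f ⁻¹ᵁ W) y).1 hy
  refine ⟨k + P, ?_⟩
  have hk0 : f.app V (r x) ^ k * y = 0 := hk
  simp only [y, mul_sub, sub_eq_zero] at hk0
  show r x ^ (k + P) • z ∈ N
  rw [Algebra.smul_def, RingHom.algebraMap_toAlgebra, pow_add, map_mul, map_pow, mul_assoc]
  rw [show (f.app V).hom (r x) ^ k * ((f.app V).hom (r x ^ P) * z) = _ from hk0, Finset.mul_sum]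
  refine N.sum_mem fun l _ => ?_
  have : f.app V (r x) ^ k * (f.app V (a l) * resF (f.preimage_mono i) (G l)) =
      (r x ^ k * a l) • resF (f.preimage_mono i) (G l) := by
    show _ = f.app V (r x ^ k * (r x ^ (P - p l) * c' l)) * resF (f.preimage_mono i) (G l)
    simp only [a, map_mul, map_pow]
    ring
  rw [this]
  exact N.smul_mem _ (Submodule.subset_span ⟨l, rfl⟩)

end Groth.Agent.H27HilbProj
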