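/-
The very ample family of Plücker sections on the Hilbert scheme of points of a finite morphism.
-/
import Groth.Agent.H27HilbProj.ChartLocus
import Groth.Agent.H27HilbProj.DetLine
import Groth.Agent.H27HilbProj.Gen
import Groth.Agent.H11Proj.FamilyAmple

set_option autoImplicit false
set_option maxHeartbeats 400000
set_option backward.isDefEq.respectTransparency false
set_option backward.isDefEq.respectTransparency.types false

noncomputable section

universe u

open CategoryTheory CategoryTheory.Limits AlgebraicGeometry TopologicalSpace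
open Groth.Agent.H11Proj (resF resF_resF resF_self resS resS_resS genAt genAt_le genAt_res Chart chartAt SpanBy Fam
  gensRing)

namespace Groth.Agent.H27HilbProj

variable {X S : Scheme.{u}} (f : X ⟶ S) [IsFinite f] {d : ℕ} (H : Over S) (ZH : HilbD.Obj f d H)
  (hu : HilbD.IsUniversal f d H ZH)

include hu in
theorem exists_frm (x : H.left) : ∃ a : Frm (piZ f H ZH) d, x ∈ a.T := by
  obtain ⟨U, hU, hxU, -⟩ :=
    exists_isAffineOpen_mem_and_subset (x := H.hom x) (U := (⊤ : S.Opens)) trivial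
  obtain ⟨M, hcov, hM⟩ := exists_chartOpen f H ZH hU hu
  obtain ⟨b, hb⟩ := hcov x hxU
  obtain ⟨hle, -, -, hv, -⟩ := hM b
  exact ⟨⟨M b, _, hv⟩, hb⟩

variable (hcov : ∀ x : H.left, ∃ a : Frm (piZ f H ZH) d, x ∈ a.T)

/-- The wedge of a tuple of functions on `X` over `U`. -/
def wedge (U : S.Opens) (b : Fin d → Γ(X, f ⁻¹ᵁ U)) : Γ(detLine hcov, H.hom ⁻¹ᵁ U) :=
  secDet hcov (evt f H ZH U (H.hom ⁻¹ᵁ U) le_rfl b)

theorem evt_map {U V : S.Opens} (i : V ≤ U) {T : H.left.Opens} (h : T ≤ H.hom ⁻¹ᵁ V)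
    (b : Fin d → Γ(X, f ⁻¹ᵁ U)) :
    evt f H ZH V T h (fun j => resF (f.preimage_mono i) (b j)) =
      evt f H ZH U T (h.trans (H.hom.preimage_mono i)) b :=
  funext fun _ => ev_map f H ZH i h _

theorem resS_wedge {U V : S.Opens} (i : V ≤ U) (b : Fin d → Γ(X, f ⁻¹ᵁ U)) :
    resS (detLine hcov) (H.hom.preimage_mono i) (wedge f H ZH hcov U b) =
      wedge f H ZH hcov V (fun j => resF (f.preimage_mono i) (b j)) := by
  rw [wedge, wedge, secDet_res, vres_evt, evt_map f H ZH i]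

theorem resS_wedge' {U : S.Opens} {T : H.left.Opens} (h : T ≤ H.hom ⁻¹ᵁ U) (b : Fin d → Γ(X, f ⁻¹ᵁ U)) :
    resS (detLine hcov) h (wedge f H ZH hcov U b) = secDet hcov (evt f H ZH U T h b) := by
  rw [wedge, secDet_res, vres_evt]

theorem spanBy_wedge {V : S.Opens} {n : ℕ} (G : Fin n → Γ(X, f ⁻¹ᵁ V))
    (hG : Submodule.span Γ(S, V) (Set.range G) = ⊤) (b : Fin d → Γ(X, f ⁻¹ᵁ V))
    {k : ℕ} (e : Fin k ≃ (Fin d → Fin n)) :
    SpanBy H.hom (detLine hcov) (fun l => wedge f H ZH hcov V (fun j => G (e l j)))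
      (wedge f H ZH hcov V b) := by
  choose c hc using fun j => (Submodule.mem_span_range_iff_exists_fun _).1 (hG ▸ Submodule.mem_top : b j ∈ _)
  have h : evt f H ZH V (H.hom ⁻¹ᵁ V) le_rfl b = fun j => ∑ l, (piZ f H ZH).app (H.hom ⁻¹ᵁ V)
      (H.hom.app V (c j l)) * ev f H ZH V (H.hom ⁻¹ᵁ V) le_rfl (G l) := funext fun j => by
    show ev f H ZH V _ _ (b j) = _
    rw [← hc j, map_sum]
    refine Finset.sum_congr rfl fun l _ => ?_
    rw [Algebra.smul_def, map_mul, Scheme.Hom.app_eq_appLE (f := H.hom), ← ev_app]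
    rfl
  rw [wedge, h, secDet_sum hcov (fun l => ev f H ZH V (H.hom ⁻¹ᵁ V) le_rfl (G l))]
  refine ⟨fun l => ∏ j, c j (e l j), ?_⟩
  rw [← Equiv.sum_comp e]
  exact Finset.sum_congr rfl fun l _ => congrArg (· • _) (map_prod (H.hom.app V).hom _ _).symm

variable (n : S.affineOpens → ℕ) (G : ∀ U : S.affineOpens, Fin (n U) → Γ(X, f ⁻¹ᵁ U.1))
  (hG : ∀ U : S.affineOpens, Submodule.span Γ(S, U.1) (Set.range (G U)) = ⊤)

/-- Numbering of tuples. -/
def num (U : S.affineOpens) : Fin (Fintype.card (Fin d → Fin (n U))) ≃ (Fin d → Fin (n U)) :=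
  (Fintype.equivFin _).symm

/-- The Plücker family. -/
def fam : Fam H.hom (detLine hcov) where
  ι := S.affineOpens
  O U := U.1
  k U := Fintype.card (Fin d → Fin (n U))
  g U l := wedge f H ZH hcov U.1 (fun j => G U (num n U l j))
  compat U U' l x hx := by
    obtain ⟨V, hV, hxV, hle⟩ := exists_isAffineOpen_mem_and_subset (x := x) (U := U.1 ⊓ U'.1) hx
    refine ⟨V, fun a ha => (hle ha).1, fun a ha => (hle ha).2, hxV, ?_⟩
    have hb := spanBy_wedge f H ZH hcov _ (span_res f U'.2 hV (fun a ha => (hle ha).2) (G U') (hG U'))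
      (fun j => resF (f.preimage_mono (fun a ha => (hle ha).1 : V ≤ U.1)) (G U (num n U l j))) (num n U')
    exact Eq.mp (congrArg₂ (SpanBy H.hom (detLine hcov)) (funext fun m => (resS_wedge f H ZH hcov (fun a ha => (hle ha).2 : V ≤ U'.1) _).symm)
      (resS_wedge f H ZH hcov (fun a ha => (hle ha).1 : V ≤ U.1) _).symm) hb

include hu in
/-- The generation locus of a wedge over an affine open is the chart. -/
theorem genAt_wedge {U V : S.Opens} (hV : IsAffineOpen V) (i : V ≤ U) (b : Fin d → Γ(X, f ⁻¹ᵁ U)) :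
    ∃ hM : genAt (detLine hcov) (wedge f H ZH hcov U b) ⊓ H.hom ⁻¹ᵁ V ≤ H.hom ⁻¹ᵁ V,
      IsAffineOpen (genAt (detLine hcov) (wedge f H ZH hcov U b) ⊓ H.hom ⁻¹ᵁ V) ∧
      ∃ hv : IsFrame (piZ f H ZH) (evt f H ZH V _ hM (fun j => resF (f.preimage_mono i) (b j))),
        ∀ (n : ℕ) (G : Fin n → Γ(X, f ⁻¹ᵁ V)), Submodule.span Γ(S, V) (Set.range G) = ⊤ →
          Subring.closure (Set.range (H.hom.appLE V _ hM) ∪
            Set.range fun p : Fin n × Fin d => coord hv (ev f H ZH V _ hM (G p.1)) p.2) = ⊤ := by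
  obtain ⟨M, -, hMb⟩ := exists_chartOpen f H ZH hV hu
  obtain ⟨hle, hMa, hmax, hv, hgen⟩ := hMb (fun j => resF (f.preimage_mono i) (b j))
  have e : M (fun j => resF (f.preimage_mono i) (b j)) =
      genAt (detLine hcov) (wedge f H ZH hcov U b) ⊓ H.hom ⁻¹ᵁ V := by
    refine le_antisymm (le_inf ?_ hle) fun x hx => ?_
    · refine le_genAt_secDet hcov _ (hle.trans (H.hom.preimage_mono i)) ?_
      rwa [vres_evt, ← evt_map f H ZH i hle]
    · obtain ⟨T, hT, hxT, hTf⟩ := exists_isFrame_of_mem_genAt hcov _ hx.1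
      refine hmax (T ⊓ H.hom ⁻¹ᵁ V) inf_le_right ?_ ⟨hxT, hx.2⟩
      have := hTf.res (inf_le_left : T ⊓ H.hom ⁻¹ᵁ V ≤ T)
      rw [vres_vres, vres_evt] at this
      rwa [evt_map f H ZH i]
  clear hmax
  revert hle hMa hv hgen
  rw [e]
  intro hle hMa hv hgen
  exact ⟨hle, hMa, hv, hgen⟩

include hu in
theorem cover (U : S.Opens) (hU : IsAffineOpen U) {m : ℕ} (G' : Fin m → Γ(X, f ⁻¹ᵁ U))
    (hG' : Submodule.span Γ(S, U) (Set.range G') = ⊤) {k : ℕ} (e : Fin k ≃ (Fin d → Fin m))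
    (x : H.left) (hx : H.hom x ∈ U) :
    ∃ l, x ∈ genAt (detLine hcov) (wedge f H ZH hcov U (fun j => G' (e l j))) := by
  obtain ⟨M, hc, hMb⟩ := exists_chartOpen f H ZH hU hu
  obtain ⟨b, hxb⟩ := hc x hx
  obtain ⟨hle, -, -, hv, -⟩ := hMb b
  let a : Chart (detLine hcov) := ⟨M b, secDet hcov _, isGen_secDet hcov hv⟩
  obtain ⟨c, hcs⟩ := spanBy_wedge f H ZH hcov G' hG' b e
  by_contra hne
  push Not at hne
  let s := fun l => wedge f H ZH hcov U (fun j => G' (e l j))
  have hxW : x ∈ a.V ⊓ H.hom ⁻¹ᵁ U := ⟨hxb, hx⟩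
  have hnon : ∀ l, ¬ IsUnit (H.left.presheaf.germ (a.V ⊓ H.hom ⁻¹ᵁ U) x hxW (a.coef (s l))) := fun l hl => by
    have := (H.left.mem_basicOpen _ x hxW).2 hl
    rw [← Chart.genAt_inf] at this
    exact hne l this.2
  have h1 : a.coef (wedge f H ZH hcov U b) = 1 := by
    refine ((a.eq_coef (wedge f H ZH hcov U b) inf_le_left inf_le_right (c := 1) ?_).trans (resF_self _)).symm
    rw [one_smul, resS_wedge', secDet_res, vres_evt]
  have h2 : ∑ l, resF (inf_le_right : a.V ⊓ H.hom ⁻¹ᵁ U ≤ H.hom ⁻¹ᵁ U) (H.hom.app U (c l)) * a.coef (s l) = 1 := by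
    rw [← h1, hcs]
    refine Eq.trans ?_ (map_sum (AddMonoidHom.mk' (a.coef (W := H.hom ⁻¹ᵁ U)) a.coef_add) _ _).symm
    exact Finset.sum_congr rfl fun l _ => (a.coef_smul _ _).symm
  have h3 := congrArg (H.left.presheaf.germ (a.V ⊓ H.hom ⁻¹ᵁ U) x hxW) h2
  rw [map_one, map_sum] at h3
  refine IsLocalRing.maximalIdeal.isMaximal (H.left.presheaf.stalk x) |>.ne_top ((Ideal.eq_top_iff_one _).2 ?_)
  rw [← h3]
  refine Ideal.sum_mem _ fun l _ => ?_
  rw [map_mul]
  exact Ideal.mul_mem_left _ _ (hnon l)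

include hu in
theorem isVeryAmple_fam : (fam f H ZH hcov n G hG).IsVeryAmple where
  cover U x hx := cover f H ZH hu hcov U.1 U.2 (G U) (hG U) (num n U) x hx
  affine U l V hV i := (genAt_wedge f H ZH hu hcov hV i _).2.1
  surj U l V hV i := by
    obtain ⟨hM, -, hv, hgen⟩ := genAt_wedge f H ZH hu hcov (U := U.1) hV i (fun j => G U (num n U l j))
    have hG' := span_res f U.2 hV i (G U) (hG U)
    refine eq_top_iff.2 fun z _ => ?_
    have hz := (hgen (n U) _ hG').ge (show z ∈ (⊤ : Subring _) from trivial)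
    refine Subring.closure_le.2 ?_ hz
    rintro _ (⟨s, rfl⟩ | ⟨⟨p, r⟩, rfl⟩)
    · exact Subring.subset_closure (Or.inl ⟨s, rfl⟩)
    · let τ : Fin d → Fin (n U) := Function.update (num n U l) r p
      refine Subring.subset_closure (Or.inr ⟨(num n U).symm τ, ?_⟩)
      let a : Chart (detLine hcov) := chartAt (wedge f H ZH hcov U.1 (fun j => G U (num n U l j)))
      refine ((a.eq_coef _ inf_le_left inf_le_right ?_).trans (resF_self _)).symm
      show resS _ inf_le_right (resS _ (H.hom.preimage_mono i) (wedge f H ZH hcov U.1 _)) =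
        coord hv _ r • resS _ inf_le_left (resS _ (genAt_le _) (wedge f H ZH hcov U.1 _))
      rw [resS_resS, resS_resS]
      refine ((resS_wedge' f H ZH hcov (hM.trans (H.hom.preimage_mono i)) _).trans ?_).trans
        (congrArg (_ • ·) (resS_wedge' f H ZH hcov (hM.trans (H.hom.preimage_mono i)) _).symm)
      rw [Equiv.apply_symm_apply, ← evt_map f H ZH i hM, ← evt_map f H ZH i hM, secDet_eq_smul hcov hv,
        ← mat_update_det hv]
      congr 2
      refine congrArg (mat hv) (funext fun j => ?_)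
      show ev f H ZH V _ hM (resF _ (G U (Function.update (num n U l) r p j))) = _
      rcases eq_or_ne j r with rfl | hj
      · rw [Function.update_self, Function.update_self]
      · rw [Function.update_of_ne hj, Function.update_of_ne hj]

theorem fam_dom : (fam f H ZH hcov n G hG).dom = ⊤ :=
  eq_top_iff.2 fun x _ => by
    obtain ⟨U, hU, hxU, -⟩ := exists_isAffineOpen_mem_and_subset (x := x) (U := (⊤ : S.Opens)) trivial
    exact Opens.mem_iSup.2 ⟨⟨U, hU⟩, hxU⟩

include hu hcov in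
theorem quasiCompact_hom : QuasiCompact H.hom := by
  refine quasiCompact_iff_forall_isAffineOpen.2 fun U hU => ?_
  obtain ⟨m, G', hG'⟩ := exists_gens f hU
  let e := (Fintype.equivFin (Fin d → Fin m)).symm
  have he : (H.hom ⁻¹ᵁ U : Set H.left) = ⋃ l, ((genAt (detLine hcov) (wedge f H ZH hcov U (fun j => G' (e l j))) ⊓
      H.hom ⁻¹ᵁ U : H.left.Opens) : Set H.left) := by
    refine subset_antisymm (fun x hx => ?_) (Set.iUnion_subset fun l => fun x hx => hx.2)
    obtain ⟨l, hl⟩ := cover f H ZH hu hcov U hU G' hG' e x hx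
    exact Set.mem_iUnion.2 ⟨l, hl, hx⟩
  rw [he]
  exact isCompact_iUnion fun l => (genAt_wedge f H ZH hu hcov hU le_rfl _).2.1.isCompact

include hu hcov in
theorem quasiSeparated_hom : QuasiSeparated H.hom := by
  refine (IsZariskiLocalAtTarget.iff_of_iSup_eq_top (P := @QuasiSeparated) (fun U : S.affineOpens => U.1)
    (iSup_affineOpens_eq_top S)).2 fun U => ?_
  haveI : IsAffine U.1.toScheme := U.2
  rw [HasAffineProperty.iff_of_isAffine (P := @QuasiSeparated)]
  obtain ⟨m, G', hG'⟩ := exists_gens f U.2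
  let e := (Fintype.equivFin (Fin d → Fin m)).symm
  let N := fun l => genAt (detLine hcov) (wedge f H ZH hcov U.1 (fun j => G' (e l j)))
  have hN : ∀ l, N l ≤ H.hom ⁻¹ᵁ U.1 := fun l => genAt_le _
  have hNa : ∀ l, IsAffineOpen (N l) := fun l => by
    rw [← inf_eq_left.2 (hN l)]
    exact (genAt_wedge f H ZH hu hcov U.2 le_rfl _).2.1
  refine Scheme.quasiSeparatedSpace_of_isOpenCover (fun l => (H.hom ⁻¹ᵁ U.1).ι ⁻¹ᵁ N l) ?_ (fun l => ?_)
    fun l l' => ?_
  · rw [IsOpenCover]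
    refine eq_top_iff.2 fun x _ => ?_
    obtain ⟨l, hl⟩ := cover f H ZH hu hcov U.1 U.2 G' hG' e x.1 x.2
    exact Opens.mem_iSup.2 ⟨l, hl⟩
  · exact (hNa l).preimage_of_isOpenImmersion _ (by rw [Scheme.Opens.opensRange_ι]; exact hN l)
  · rw [(H.hom ⁻¹ᵁ U.1).ι.isOpenEmbedding.isCompact_iff]
    have : IsCompact ((N l ⊓ N l' : H.left.Opens) : Set H.left) := by
      let a : Chart (detLine hcov) := chartAt (wedge f H ZH hcov U.1 (fun j => G' (e l j)))
      have h := Chart.genAt_inf a (wedge f H ZH hcov U.1 (fun j => G' (e l' j)))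
      show IsCompact ((a.V ⊓ N l' : H.left.Opens) : Set H.left)
      rw [h]
      exact (((inf_eq_left.2 (hN l)).symm ▸ hNa l : IsAffineOpen (a.V ⊓ H.hom ⁻¹ᵁ U.1)).basicOpen _).isCompact
    convert this using 1
    refine Set.ext fun x => ⟨?_, fun hx => ⟨⟨x, hN l hx.1⟩, hx, rfl⟩⟩
    rintro ⟨y, hy, rfl⟩
    exact hy

include hu in
/-- The Hilbert scheme of points of a finite morphism is projective. -/
theorem isProjective : RelProj.IsProjective H.hom := by
  choose n G hG using fun U : S.affineOpens => exists_gens f U.2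
  have hcov := exists_frm f H ZH hu
  haveI := quasiCompact_hom f H ZH hu hcov
  haveI := quasiSeparated_hom f H ZH hu hcov
  exact (isVeryAmple_fam f H ZH hu hcov n G hG).isProjective (isInvertible_detLine hcov)
    (fam_dom f H ZH hcov n G hG)

end Groth.Agent.H27HilbProj
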